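import Mathlib.CategoryTheory.Abelian.Refinements
import Mathlib.CategoryTheory.Monoidal.Braided.Basic
import Mathlib.Algebra.Homology.ShortComplex.ExactFunctor
import Mathlib.CategoryTheory.Monoidal.Preadditive

/-!
# Flat objects in a symmetric monoidal abelian category with right exact tensor product

* `mono_whiskerRight`: if `0 → F₁ → F₂ → F₃ → 0` is exact with `F₃` flat and `G` is a quotient of a flat
  object then `F₁ ⊗ G → F₂ ⊗ G` is a monomorphism;
* `flat_X₂`, `flat_X₁`: two out of three properties.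
-/

set_option autoImplicit false

open CategoryTheory CategoryTheory.Limits MonoidalCategory

universe v u

namespace K295.AbsFlat

variable {A : Type u} [Category.{v} A] [Abelian A] [MonoidalCategory A]

/-- `- ⊗ F` preserves monomorphisms. -/
def Flat (F : A) : Prop := ∀ ⦃X Y : A⦄ (f : X ⟶ Y), Mono f → Mono (f ▷ F)

omit [MonoidalCategory A] in
/-- A functor which preserves finite colimits preserves zero morphisms. -/
theorem preservesZero {B : Type*} [Category* B] [Abelian B] (T : A ⥤ B) [PreservesFiniteColimits T] :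
    T.PreservesZeroMorphisms :=
  @Functor.preservesZeroMorphisms_of_preserves_initial_object _ _ _ _ _ _ _ _ T inferInstance

omit [MonoidalCategory A] in
theorem exact_and_epi {B : Type*} [Category* B] [Abelian B] (T : A ⥤ B) [PreservesFiniteColimits T]
    {X₁ X₂ X₃ : A} (f : X₁ ⟶ X₂) (g : X₂ ⟶ X₃) (w : f ≫ g = 0) [Epi g]
    (h : (ShortComplex.mk f g w).Exact) (w' : T.map f ≫ T.map g = 0) :
    (ShortComplex.mk (T.map f) (T.map g) w').Exact ∧ Epi (T.map g) := by
  have := preservesZero T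
  have : PreservesBinaryBiproducts T := preservesBinaryBiproducts_of_preservesBinaryCoproducts T
  have : T.Additive := Functor.additive_of_preservesBinaryBiproducts T
  refine ⟨?_, inferInstance⟩
  have hc : IsColimit (CokernelCofork.ofπ g w) := h.gIsCokernel
  have := ShortComplex.exact_of_g_is_cokernel ((ShortComplex.mk f g w).map T)
    (CokernelCofork.mapIsColimit _ hc T)
  exact this

section

variable [∀ X : A, PreservesFiniteColimits (tensorLeft X)] [∀ X : A, PreservesFiniteColimits (tensorRight X)]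

omit [∀ X : A, PreservesFiniteColimits (tensorLeft X)] in
theorem zero_whiskerRight' {X Y : A} (Z : A) : (0 : X ⟶ Y) ▷ Z = 0 :=
  (preservesZero (tensorRight Z)).map_zero X Y

omit [∀ X : A, PreservesFiniteColimits (tensorRight X)] in
theorem whiskerLeft_zero' {X Y : A} (Z : A) : Z ◁ (0 : X ⟶ Y) = 0 :=
  (preservesZero (tensorLeft Z)).map_zero X Y

/-- If `0 → F₁ → F₂ → F₃ → 0` is exact, `F₃ ⊗ -` preserves monomorphisms and `G` is a quotient of a
flat object then `F₁ ⊗ G → F₂ ⊗ G` is a monomorphism. -/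
theorem mono_whiskerRight (S : ShortComplex A) (hS : S.ShortExact)
    (hF : ∀ ⦃X Y : A⦄ (f : X ⟶ Y), Mono f → Mono (S.X₃ ◁ f)) (G : A)
    {P : A} (π : P ⟶ G) [Epi π] (hP : Flat P) : Mono (S.f ▷ G) := by
  let ι : kernel π ⟶ P := kernel.ι π
  have hmf := hS.mono_f
  have heg := hS.epi_g
  have wR : ∀ Z : A, S.f ▷ Z ≫ S.g ▷ Z = 0 := fun Z => by
    rw [← comp_whiskerRight, S.zero, zero_whiskerRight']
  have wL : ∀ Z : A, Z ◁ ι ≫ Z ◁ π = 0 := fun Z => by
    rw [← whiskerLeft_comp, kernel.condition, whiskerLeft_zero']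
  have exR : ∀ Z : A, (ShortComplex.mk (S.f ▷ Z) (S.g ▷ Z) (wR Z)).Exact := fun Z =>
    (exact_and_epi (tensorRight Z) S.f S.g S.zero hS.exact (wR Z)).1
  have exL : ∀ Z : A, (ShortComplex.mk (Z ◁ ι) (Z ◁ π) (wL Z)).Exact ∧ Epi (Z ◁ π) := fun Z =>
    exact_and_epi (tensorLeft Z) ι π (kernel.condition π)
      (ShortComplex.exact_of_f_is_kernel _ (kernelIsKernel π)) (wL Z)
  have m1 : Mono (S.f ▷ P) := hP S.f hmf
  have m2 : Mono (S.X₃ ◁ ι) := hF ι inferInstance
  rw [Preadditive.mono_iff_cancel_zero]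
  intro T z hz
  have := (exL S.X₁).2
  obtain ⟨T₁, p₁, _, z₁, h₁⟩ := surjective_up_to_refinements_of_epi (S.X₁ ◁ π) z
  have h₂ : (z₁ ≫ S.f ▷ P) ≫ S.X₂ ◁ π = 0 := by
    rw [Category.assoc, ← whisker_exchange, ← Category.assoc, ← h₁, Category.assoc, hz, comp_zero]
  obtain ⟨T₂, p₂, _, w, h₃⟩ := (exL S.X₂).1.exact_up_to_refinements _ h₂
  dsimp only at w h₃
  have h₄ : w ≫ S.g ▷ kernel π = 0 := by
    rw [← cancel_mono (S.X₃ ◁ ι), Category.assoc, ← whisker_exchange, ← Category.assoc, ← h₃]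
    simp only [Category.assoc, wR, comp_zero, zero_comp]
  obtain ⟨T₃, p₃, _, w₁, h₅⟩ := (exR (kernel π)).exact_up_to_refinements _ h₄
  dsimp only at w₁ h₅
  have h₆ : p₃ ≫ p₂ ≫ z₁ = w₁ ≫ S.X₁ ◁ ι := by
    rw [← cancel_mono (S.f ▷ P), Category.assoc, Category.assoc, Category.assoc, h₃,
      whisker_exchange, ← Category.assoc p₃ w, h₅, Category.assoc]
  have h₇ : p₃ ≫ p₂ ≫ p₁ ≫ z = 0 := by
    rw [h₁, ← Category.assoc p₂, ← Category.assoc p₃, h₆, Category.assoc, wL, comp_zero]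
  rw [← cancel_epi p₁, ← cancel_epi p₂, ← cancel_epi p₃, h₇]
  simp

/-- `0 → F₁ ⊗ G → F₂ ⊗ G → F₃ ⊗ G → 0` is exact if `F₃` is flat. -/
theorem shortExact_whiskerRight (S : ShortComplex A) (hS : S.ShortExact)
    (hF : ∀ ⦃X Y : A⦄ (f : X ⟶ Y), Mono f → Mono (S.X₃ ◁ f)) (G : A)
    {P : A} (π : P ⟶ G) [Epi π] (hP : Flat P) (w : S.f ▷ G ≫ S.g ▷ G = 0) :
    (ShortComplex.mk (S.f ▷ G) (S.g ▷ G) w).ShortExact := by
  have := hS.epi_g
  have h := exact_and_epi (tensorRight G) S.f S.g S.zero hS.exact w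
  exact { exact := h.1
          mono_f := mono_whiskerRight S hS hF G π hP
          epi_g := h.2 }

section Braided

variable [BraidedCategory A]

omit [Abelian A] [∀ X : A, PreservesFiniteColimits (tensorLeft X)]
  [∀ X : A, PreservesFiniteColimits (tensorRight X)] in
theorem mono_whiskerLeft_iff (F : A) {X Y : A} (f : X ⟶ Y) : Mono (F ◁ f) ↔ Mono (f ▷ F) := by
  have e : F ◁ f = (β_ F X).hom ≫ f ▷ F ≫ (β_ F Y).inv := by
    rw [BraidedCategory.braiding_inv_naturality_left, Iso.hom_inv_id_assoc]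
  rw [e]
  constructor
  · intro h
    have e' : f ▷ F = (β_ F X).inv ≫ ((β_ F X).hom ≫ f ▷ F ≫ (β_ F Y).inv) ≫ (β_ F Y).hom := by
      simp
    rw [e']
    infer_instance
  · intro h
    infer_instance

omit [Abelian A] [∀ X : A, PreservesFiniteColimits (tensorLeft X)]
  [∀ X : A, PreservesFiniteColimits (tensorRight X)] in
theorem flat_iff_left (F : A) : Flat F ↔ ∀ ⦃X Y : A⦄ (f : X ⟶ Y), Mono f → Mono (F ◁ f) :=
  forall_congr' fun _ => forall_congr' fun _ => forall_congr' fun f => forall_congr' fun _ =>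
    (mono_whiskerLeft_iff F f).symm

variable (hE : ∀ G : A, ∃ (P : A) (π : P ⟶ G), Flat P ∧ Epi π)
include hE

theorem flat_X₂ (S : ShortComplex A) (hS : S.ShortExact) (h1 : Flat S.X₁) (h3 : Flat S.X₃) :
    Flat S.X₂ := by
  rw [flat_iff_left] at h1 h3 ⊢
  intro X Y f hf
  obtain ⟨P, π, hP, hπ⟩ := hE X
  obtain ⟨P', π', hP', hπ'⟩ := hE Y
  have wR : ∀ Z : A, S.f ▷ Z ≫ S.g ▷ Z = 0 := fun Z => by
    rw [← comp_whiskerRight, S.zero, zero_whiskerRight']
  have e1 := shortExact_whiskerRight S hS h3 X π hP (wR X)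
  have e2 := shortExact_whiskerRight S hS h3 Y π' hP' (wR Y)
  let φ : ShortComplex.mk (S.f ▷ X) (S.g ▷ X) (wR X) ⟶ ShortComplex.mk (S.f ▷ Y) (S.g ▷ Y) (wR Y) :=
    { τ₁ := S.X₁ ◁ f
      τ₂ := S.X₂ ◁ f
      τ₃ := S.X₃ ◁ f
      comm₁₂ := whisker_exchange _ _
      comm₂₃ := whisker_exchange _ _ }
  have m1 : Mono φ.τ₁ := h1 f hf
  have m3 : Mono φ.τ₃ := h3 f hf
  have := e1.mono_f
  have := e2.mono_f
  exact ShortComplex.mono_τ₂_of_exact_of_mono φ e1.exact

theorem flat_X₁ (S : ShortComplex A) (hS : S.ShortExact) (h2 : Flat S.X₂) (h3 : Flat S.X₃) :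
    Flat S.X₁ := by
  rw [flat_iff_left] at h2 h3 ⊢
  intro X Y f hf
  obtain ⟨P, π, hP, hπ⟩ := hE X
  have m1 := mono_whiskerRight S hS h3 X π hP
  have m2 : Mono (S.X₂ ◁ f) := h2 f hf
  have m3 : Mono (S.X₁ ◁ f ≫ S.f ▷ Y) := by
    rw [whisker_exchange]
    infer_instance
  exact mono_of_mono _ (S.f ▷ Y)

omit hE [Abelian A] [∀ X : A, PreservesFiniteColimits (tensorLeft X)]
  [∀ X : A, PreservesFiniteColimits (tensorRight X)] [BraidedCategory A] in
theorem flat_tensor {F G : A} (hF : Flat F) (hG : Flat G) : Flat (F ⊗ G) := by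
  intro X Y f hf
  have e : f ▷ (F ⊗ G) = (α_ X F G).inv ≫ (f ▷ F ▷ G) ≫ (α_ Y F G).hom := by
    simp
  have := hG _ (hF f hf)
  rw [e]
  infer_instance

end Braided

end

end K295.AbsFlat
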