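import Mathlib.Algebra.Category.ModuleCat.Presheaf.Monoidal
import Mathlib.Algebra.Category.ModuleCat.Presheaf.EpiMono
import Mathlib.RingTheory.Flat.CategoryTheory
import Mathlib.Algebra.Homology.ShortComplex.ExactFunctor

/-!
# The sectionwise tensor product of presheaves of modules: exactness

* `preservesColimits_tensorRight`, `preservesColimits_tensorLeft`: `- ⊗ M` and `M ⊗ -` preserve all
  small colimits of presheaves of modules;
* `preservesFiniteLimits_tensorRight`: if all the values of `M` are flat then `- ⊗ M` is exact.
-/

set_option autoImplicit false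

universe w v u v₁ u₁

open CategoryTheory CategoryTheory.Limits MonoidalCategory Opposite

namespace K295.PTens

variable {C : Type u₁} [Category.{v₁} C] {R : Cᵒᵖ ⥤ CommRingCat.{u}}

/-- Presheaves of modules over a presheaf of commutative rings. -/
abbrev PM (R : Cᵒᵖ ⥤ CommRingCat.{u}) := PresheafOfModules.{u} (R ⋙ forget₂ CommRingCat RingCat)

/-- Evaluation, with values in modules over the commutative ring of sections. -/
noncomputable abbrev ev (R : Cᵒᵖ ⥤ CommRingCat.{u}) (X : Cᵒᵖ) : PM R ⥤ ModuleCat.{u} (R.obj X) :=
  PresheafOfModules.evaluation _ X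

/-- `- ⊗ M` is computed sectionwise. -/
noncomputable def tensorRightEv (M : PM R) (X : Cᵒᵖ) :
    tensorRight M ⋙ ev R X ≅ ev R X ⋙ tensorRight ((ev R X).obj M) :=
  NatIso.ofComponents (fun _ => Iso.refl _) (fun f => by
    change ((tensorRight M ⋙ ev R X).map f) ≫ 𝟙 _ = 𝟙 _ ≫ (ev R X ⋙ tensorRight ((ev R X).obj M)).map f
    rw [Category.comp_id, Category.id_comp]
    rfl)

instance preservesColimits_tensorLeft' {A : Type u} [CommRing A] (M : ModuleCat.{u} A) :
    PreservesColimitsOfSize.{v, w} (tensorLeft M) :=
  (ihom.adjunction M).leftAdjoint_preservesColimits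

instance preservesColimits_tensorRight' {A : Type u} [CommRing A] (M : ModuleCat.{u} A) :
    PreservesColimitsOfSize.{v, w} (tensorRight M) :=
  preservesColimits_of_natIso (BraidedCategory.tensorLeftIsoTensorRight M)

/-- `- ⊗ M` preserves colimits of presheaves of modules. -/
theorem preservesColimitsOfShape_tensorRight (M : PM R) (K : Type w) [Category.{v} K]
    [HasColimitsOfShape K AddCommGrpCat.{u}] : PreservesColimitsOfShape K (tensorRight M) where
  preservesColimit {F} := ⟨fun {c} hc => ⟨by
    refine PresheafOfModules.evaluationJointlyReflectsColimits _ _ (fun X => ?_)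
    have : PreservesColimitsOfShape K (tensorRight ((ev R X).obj M)) :=
      (preservesColimits_tensorRight'.{w, v} _).preservesColimitsOfShape
    have h1 : PreservesColimitsOfShape K (ev R X) :=
      inferInstanceAs (PreservesColimitsOfShape K (PresheafOfModules.evaluation (R ⋙ forget₂ CommRingCat RingCat) X))
    have h2 : PreservesColimitsOfShape K (tensorRight M ⋙ ev R X) :=
      preservesColimitsOfShape_of_natIso (tensorRightEv M X).symm
    exact isColimitOfPreserves (tensorRight M ⋙ ev R X) hc⟩⟩

/-- `M ⊗ -` preserves colimits of presheaves of modules. -/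
theorem preservesColimitsOfShape_tensorLeft (M : PM R) (K : Type w) [Category.{v} K]
    [HasColimitsOfShape K AddCommGrpCat.{u}] : PreservesColimitsOfShape K (tensorLeft M) :=
  have := preservesColimitsOfShape_tensorRight M K
  preservesColimitsOfShape_of_natIso (BraidedCategory.tensorLeftIsoTensorRight M).symm

instance preservesFiniteColimits_tensorRight (M : PM R) : PreservesFiniteColimits (tensorRight M) where
  preservesFiniteColimits K _ _ := preservesColimitsOfShape_tensorRight M K

instance preservesFiniteColimits_tensorLeft (M : PM R) : PreservesFiniteColimits (tensorLeft M) where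
  preservesFiniteColimits K _ _ := preservesColimitsOfShape_tensorLeft M K

/-- If all values of `M` are flat, `- ⊗ M` is left exact. -/
theorem preservesFiniteLimits_tensorRight (M : PM R) (hM : ∀ X : Cᵒᵖ, Module.Flat (R.obj X) (M.obj X)) :
    PreservesFiniteLimits (tensorRight M) where
  preservesFiniteLimits K _ _ := ⟨fun {F} => ⟨fun {c} hc => ⟨by
    refine PresheafOfModules.evaluationJointlyReflectsLimits _ _ (fun X => ?_)
    have : Module.Flat (R.obj X) ((ev R X).obj M) := hM X
    have h0 : PreservesFiniteLimits (tensorRight ((ev R X).obj M)) := inferInstance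
    have h1 : PreservesFiniteLimits (ev R X) :=
      inferInstanceAs (PreservesFiniteLimits (PresheafOfModules.evaluation (R ⋙ forget₂ CommRingCat RingCat) X))
    have h2 : PreservesLimitsOfShape K (tensorRight M ⋙ ev R X) :=
      preservesLimitsOfShape_of_natIso (tensorRightEv M X).symm
    exact isLimitOfPreserves (tensorRight M ⋙ ev R X) hc⟩⟩⟩

end K295.PTens
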