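import Groth.Agent.ModSite.K295.FlatCrit
import Groth.Agent.ModSite.K295.AbsFlat
import Groth.Agent.ModSite.K295.PTens
import Mathlib.Algebra.Category.ModuleCat.Presheaf.Free
import Mathlib.Algebra.Category.ModuleCat.Presheaf.Abelian
import Mathlib.Algebra.Category.ModuleCat.Sheaf.Abelian
import Mathlib.RingTheory.Flat.Basic

/-!
# Every module is a quotient of a flat one; exact sequences with flat terms

* `freeP P`: the sectionwise free presheaf of modules on the presheaf of sets underlying `P`, with its
  sectionwise surjective map `freePπ P : freeP P ⟶ P`;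
* `exists_epi_of_isFlat`: every module on a ringed site is a quotient of a flat one;
* `shortExact_of_isFlat`, `isFlat_X₂`, `isFlat_X₁`, `isFlat_tensor`, `isFlat_of_isColimit_cofan`.
-/

set_option autoImplicit false

open CategoryTheory MonoidalCategory Limits Opposite

universe u

namespace K295.FlatCov

open Groth.Agent Groth.Agent.Dcoh K291.Mon K291.Colim K295.FlatCrit K295.AbsFlat

section Presheaf

variable {C : Type u} [SmallCategory C] {R : Cᵒᵖ ⥤ CommRingCat.{u}}

/-- The free presheaf of modules on the sections of `P`. -/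
noncomputable def freeP (P : MonW.PM R) : MonW.PM R :=
  PresheafOfModules.freeObj (P.presheaf ⋙ forget _)

/-- The canonical map. -/
noncomputable def freePπ (P : MonW.PM R) : freeP P ⟶ P :=
  PresheafOfModules.freeObjDesc (𝟙 _)

theorem freePπ_surjective (P : MonW.PM R) (X : Cᵒᵖ) :
    Function.Surjective (MonW.sec (freePπ P) X) := by
  intro x
  refine ⟨(ModuleCat.freeMk (R := (R ⋙ forget₂ CommRingCat.{u} RingCat.{u}).obj X)
    (show (P.presheaf ⋙ forget _).obj X from x)), ?_⟩
  exact ModuleCat.freeDesc_apply _ _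

instance epi_freePπ (P : MonW.PM R) : Epi (freePπ P) :=
  PresheafOfModules.epi_of_surjective (fun {X} => freePπ_surjective P X)

theorem flat_freeP (P : MonW.PM R) (X : Cᵒᵖ) : Module.Flat (R.obj X) ((freeP P).obj X) :=
  inferInstanceAs (Module.Flat (R.obj X) (((P.presheaf ⋙ forget _).obj X) →₀ (R.obj X)))

end Presheaf

section Sheaf

variable {C : Type u} [SmallCategory C] {J : GrothendieckTopology C} {O : Sheaf J CommRingCat.{u}}

/-- Every module is a quotient of a flat one. -/
theorem exists_epi_of_isFlat (F : ModSite.Mod O) :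
    ∃ (G : ModSite.Mod O) (π : G ⟶ F), ModSite.IsFlat G ∧ Epi π := by
  refine ⟨(shP O).obj (freeP ((toP O).obj F)),
    (shP O).map (freePπ ((toP O).obj F)) ≫ (shAdj O).counit.app F,
    isFlat_shP_of_flat _ (flat_freeP _), ?_⟩
  have := (shAdj O).isLeftAdjoint
  have h1 : Epi ((shP O).map (freePπ ((toP O).obj F))) := inferInstance
  exact epi_comp _ _

instance (X : ModSite.Mod O) : PreservesFiniteColimits (tensorLeft X) :=
  PreservesColimitsOfSize.preservesFiniteColimits.{u, u} _

instance (X : ModSite.Mod O) : PreservesFiniteColimits (tensorRight X) :=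
  PreservesColimitsOfSize.preservesFiniteColimits.{u, u} _

theorem isFlat_iff_flat (F : ModSite.Mod O) : ModSite.IsFlat F ↔ AbsFlat.Flat F :=
  isFlat_iff_mono F

theorem enough (G : ModSite.Mod O) : ∃ (P : ModSite.Mod O) (π : P ⟶ G), AbsFlat.Flat P ∧ Epi π := by
  obtain ⟨P, π, h, h'⟩ := exists_epi_of_isFlat G
  exact ⟨P, π, (isFlat_iff_flat P).1 h, h'⟩

/-- Tensoring a short exact sequence with flat third term preserves short exactness. -/
theorem shortExact_of_isFlat (S : ShortComplex (ModSite.Mod O)) (hS : S.ShortExact)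
    (hF : ModSite.IsFlat S.X₃) (G : ModSite.Mod O)
    [((ModSite.tensorBi O).flip.obj G).PreservesZeroMorphisms] :
    (S.map ((ModSite.tensorBi O).flip.obj G)).ShortExact := by
  obtain ⟨P, π, hP, hπ⟩ := enough G
  have h3 := (flat_iff_left S.X₃).1 ((isFlat_iff_flat _).1 hF)
  have w : S.f ▷ G ≫ S.g ▷ G = 0 := by rw [← comp_whiskerRight, S.zero, zero_whiskerRight']
  exact shortExact_whiskerRight S hS h3 G π hP w

/-- Tensoring a short exact sequence with flat third term preserves short exactness (left version). -/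
theorem shortExact_of_isFlat_left (S : ShortComplex (ModSite.Mod O)) (hS : S.ShortExact)
    (hF : ModSite.IsFlat S.X₃) (G : ModSite.Mod O)
    [((ModSite.tensorBi O).obj G).PreservesZeroMorphisms] :
    (S.map ((ModSite.tensorBi O).obj G)).ShortExact := by
  have : ((ModSite.tensorBi O).flip.obj G).PreservesZeroMorphisms := preservesZero _
  refine ShortComplex.shortExact_of_iso (S.mapNatIso (objIsoFlip O G)).symm
    (shortExact_of_isFlat S hS hF G)

theorem isFlat_X₂ (S : ShortComplex (ModSite.Mod O)) (hS : S.ShortExact)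
    (h₁ : ModSite.IsFlat S.X₁) (h₃ : ModSite.IsFlat S.X₃) : ModSite.IsFlat S.X₂ := by
  rw [isFlat_iff_flat] at *
  exact flat_X₂ enough S hS h₁ h₃

theorem isFlat_X₁ (S : ShortComplex (ModSite.Mod O)) (hS : S.ShortExact)
    (h₂ : ModSite.IsFlat S.X₂) (h₃ : ModSite.IsFlat S.X₃) : ModSite.IsFlat S.X₁ := by
  rw [isFlat_iff_flat] at *
  exact flat_X₁ enough S hS h₂ h₃

theorem isFlat_tensor (G F : ModSite.Mod O) (hG : ModSite.IsFlat G) (hF : ModSite.IsFlat F) :
    ModSite.IsFlat (((ModSite.tensorBi O).obj G).obj F) := by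
  change ModSite.IsFlat (G ⊗ F)
  rw [isFlat_iff_flat] at *
  exact flat_tensor hG hF

/-- A colimit of flat modules over a shape along which colimits are exact is flat. -/
theorem isFlat_of_isColimit {I : Type u} [SmallCategory I] [HasExactColimitsOfShape I (ModSite.Mod O)]
    (D : I ⥤ ModSite.Mod O) (hD : ∀ i, ModSite.IsFlat (D.obj i)) (c : Cocone D) (hc : IsColimit c) :
    ModSite.IsFlat c.pt := by
  rw [isFlat_iff_flat, flat_iff_left]
  intro X Y f hf
  have hX : IsColimit ((tensorRight X).mapCocone c) := isColimitOfPreserves _ hc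
  have hY : IsColimit ((tensorRight Y).mapCocone c) := isColimitOfPreserves _ hc
  let α : D ⋙ tensorRight X ⟶ D ⋙ tensorRight Y :=
    Functor.whiskerLeft D ((tensoringRight (ModSite.Mod O)).map f)
  have hα : ∀ i, Mono (α.app i) := fun i =>
    (flat_iff_left _).1 ((isFlat_iff_flat _).1 (hD i)) f hf
  have : Mono α := NatTrans.mono_of_mono_app α
  have h1 : Mono (colim.map α) := inferInstance
  have e : c.pt ◁ f = (hX.coconePointUniqueUpToIso (colimit.isColimit _)).hom ≫ colim.map α ≫
      (hY.coconePointUniqueUpToIso (colimit.isColimit _)).inv := by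
    refine hX.hom_ext fun i => ?_
    rw [IsColimit.comp_coconePointUniqueUpToIso_hom_assoc]
    have e2 : (colimit.cocone (D ⋙ tensorRight X)).ι.app i ≫ colim.map α =
      α.app i ≫ (colimit.cocone (D ⋙ tensorRight Y)).ι.app i := colimit.ι_map α i
    rw [← Category.assoc, e2, Category.assoc, IsColimit.comp_coconePointUniqueUpToIso_inv]
    exact whisker_exchange (c.ι.app i) f |>.symm
  rw [e]
  infer_instance

/-- A direct sum of flat modules is flat. -/
theorem isFlat_of_isColimit_cofan {ι : Type u} (F : ι → ModSite.Mod O)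
    (hF : ∀ i, ModSite.IsFlat (F i)) (c : Cofan F) (hc : IsColimit c) : ModSite.IsFlat c.pt := by
  have := K291.Colim.isGrothendieckAbelian O
  have : HasExactColimitsOfShape (Discrete ι) (ModSite.Mod O) := by
    have : HasFiniteBiproducts (ModSite.Mod O) := HasFiniteBiproducts.of_hasFiniteProducts
    have : AB4OfSize.{u} (ModSite.Mod O) := AB4.of_AB5 _
    infer_instance
  exact isFlat_of_isColimit (I := Discrete ι) (Discrete.functor F) (fun i => hF i.as) c hc

end Sheaf

end K295.FlatCov
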