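import Groth.Agent.ModSite.K291.Colim
import Groth.Agent.Gaga.H976.TM0
import Mathlib.RingTheory.Flat.Basic

/-!
# Flat modules on a ringed site: tensoring preserves (locally) injective morphisms

For `f : P ⟶ Q` a morphism of presheaves of modules on a ringed site, `LI f` says that `f` is locally
injective.

* `mono_shP_map_iff`: `shP.map f` is a monomorphism iff `LI f`;
* `isFlat_iff_preservesMono`: `IsFlat F` iff `- ⊗ F` preserves monomorphisms;
* `isFlat_iff_LI_sheaf`, `isFlat_iff_LI`: `IsFlat F` iff `f ▷ F` is locally injective for all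
  sectionwise injective / locally injective `f`;
* `isFlat_shP`: if all values of `P` are flat (or `- ⊗ P` preserves injective morphisms up to local
  injectivity) then `shP P` is flat.
-/

set_option autoImplicit false

open CategoryTheory MonoidalCategory Limits Opposite

universe u

namespace K295.FlatCrit

open Groth.Agent Groth.Agent.Dcoh K291.Mon K291.Colim

variable {C : Type u} [SmallCategory C] {J : GrothendieckTopology C} {O : Sheaf J CommRingCat.{u}}

/-- `f` is locally injective. -/
def LI {P Q : PM O} (f : P ⟶ Q) : Prop :=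
  Presheaf.IsLocallyInjective J ((PresheafOfModules.toPresheaf _).map f)

/-- `f` is locally surjective. -/
def LS {P Q : PM O} (f : P ⟶ Q) : Prop :=
  Presheaf.IsLocallySurjective J ((PresheafOfModules.toPresheaf _).map f)

theorem LI_iff {P Q : PM O} (f : P ⟶ Q) : LI f ↔
    ∀ (U : C) (s : P.obj (op U)), MonW.sec f (op U) s = 0 → ∃ S ∈ J U, ∀ ⦃V : C⦄ (i : V ⟶ U), S i →
        MonW.res P i.op s = 0 := MonW.isLocallyInjective_iff f

theorem LS_iff {P Q : PM O} (f : P ⟶ Q) : LS f ↔
    ∀ (U : C) (s : Q.obj (op U)), ∃ S ∈ J U, ∀ ⦃V : C⦄ (i : V ⟶ U), S i →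
        ∃ t : P.obj (op V), MonW.sec f (op V) t = MonW.res Q i.op s := MonW.isLocallySurjective_iff f

theorem LI_of_injective {P Q : PM O} (f : P ⟶ Q)
    (hf : ∀ X, Function.Injective (MonW.sec f X)) : LI f := by
  rw [LI_iff]
  intro U s hs
  refine ⟨⊤, J.top_mem U, fun V i _ => ?_⟩
  have : s = 0 := hf (op U) (hs.trans (map_zero _).symm)
  rw [this, map_zero]

theorem LI_comp {P Q R : PM O} (f : P ⟶ Q) (g : Q ⟶ R) (hf : LI f) (hg : LI g) : LI (f ≫ g) := by
  unfold LI at *
  rw [Functor.map_comp]
  infer_instance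

theorem LI_of_comp {P Q R : PM O} (f : P ⟶ Q) (g : Q ⟶ R) (h : LI (f ≫ g)) : LI f := by
  unfold LI at *
  rw [Functor.map_comp] at h
  exact Presheaf.isLocallyInjective_of_isLocallyInjective J _
    ((PresheafOfModules.toPresheaf _).map g)

theorem WO_LI {P Q : PM O} (f : P ⟶ Q) (hf : WO O f) : LI f :=
  GrothendieckTopology.W.isLocallyInjective hf

theorem WO_LS {P Q : PM O} (f : P ⟶ Q) (hf : WO O f) : LS f :=
  GrothendieckTopology.W.isLocallySurjective hf

theorem WO_iff_LI_LS {P Q : PM O} (f : P ⟶ Q) : WO O f ↔ LI f ∧ LS f := by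
  unfold LI LS
  rw [← GrothendieckTopology.W_iff_isLocallyBijective]
  rfl

/-- If `f` is locally surjective and `f ≫ g` locally injective then `g` is locally injective. -/
theorem LI_of_comp_of_LS {P Q R : PM O} (f : P ⟶ Q) (g : Q ⟶ R) (hf : LS f) (h : LI (f ≫ g)) :
    LI g := by
  unfold LI LS at *
  rw [Functor.map_comp] at h
  exact Presheaf.isLocallyInjective_of_isLocallyInjective_of_isLocallySurjective J
    ((PresheafOfModules.toPresheaf _).map f) _

theorem LI_unit (P : PM O) : LI ((shAdj O).unit.app P) := WO_LI _ (WO_unit O P)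

theorem LS_unit (P : PM O) : LS ((shAdj O).unit.app P) := WO_LS _ (WO_unit O P)

/-- Monomorphisms of sheaves of modules are injective on sections. -/
theorem mono_iff_injective {M N : ModSite.Mod O} (f : M ⟶ N) :
    Mono f ↔ ∀ X, Function.Injective (MonW.sec ((toP O).map f) X) :=
  Gaga.H976.TM0.mono_iff f

theorem epi_iff_LS {M N : ModSite.Mod O} (f : M ⟶ N) : Epi f ↔ LS ((toP O).map f) :=
  Gaga.H976.TM0.epi_iff_isLocallySurjective f

theorem mono_iff_LI {M N : ModSite.Mod O} (f : M ⟶ N) :
    Mono f ↔ LI ((toP O).map f) := by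
  constructor
  · intro h
    exact LI_of_injective _ ((mono_iff_injective f).1 h)
  · intro h
    rw [mono_iff_injective]
    intro X
    have h' : Sheaf.IsLocallyInjective ((SheafOfModules.toSheaf (ModSite.ringSh O)).map f) := h
    rw [Sheaf.isLocallyInjective_iff_injective] at h'
    exact h' X

/-- `shP.map f` is a monomorphism iff `f` is locally injective. -/
theorem mono_shP_map_iff {P Q : PM O} (f : P ⟶ Q) : Mono ((shP O).map f) ↔ LI f := by
  rw [mono_iff_LI]
  have e : (shAdj O).unit.app P ≫ (toP O).map ((shP O).map f) = f ≫ (shAdj O).unit.app Q :=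
    ((shAdj O).unit.naturality f).symm
  constructor
  · intro h
    exact LI_of_comp f _ (e ▸ LI_comp _ _ (LI_unit P) h)
  · intro h
    have h2 : LI ((shAdj O).unit.app P ≫ (toP O).map ((shP O).map f)) := by
      rw [e]
      exact LI_comp _ _ h (LI_unit Q)
    exact LI_of_comp_of_LS _ _ (LS_unit P) h2

theorem epi_shP_map_iff {P Q : PM O} (f : P ⟶ Q) : Epi ((shP O).map f) ↔ LS f := by
  rw [epi_iff_LS]
  have e : (shAdj O).unit.app P ≫ (toP O).map ((shP O).map f) = f ≫ (shAdj O).unit.app Q :=
    ((shAdj O).unit.naturality f).symm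
  have e' : (PresheafOfModules.toPresheaf _).map ((shAdj O).unit.app P) ≫
      (PresheafOfModules.toPresheaf _).map ((toP O).map ((shP O).map f)) =
      (PresheafOfModules.toPresheaf _).map f ≫
        (PresheafOfModules.toPresheaf _).map ((shAdj O).unit.app Q) := by
    rw [← Functor.map_comp, ← Functor.map_comp, e]
  have h1 : Presheaf.IsLocallySurjective J
      ((PresheafOfModules.toPresheaf _).map ((shAdj O).unit.app P)) := LS_unit P
  have h2 : Presheaf.IsLocallySurjective J
      ((PresheafOfModules.toPresheaf _).map ((shAdj O).unit.app Q)) := LS_unit Q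
  have h3 : Presheaf.IsLocallyInjective J
      ((PresheafOfModules.toPresheaf _).map ((shAdj O).unit.app Q)) := LI_unit Q
  unfold LS
  constructor
  · intro h
    have h4 : Presheaf.IsLocallySurjective J ((PresheafOfModules.toPresheaf _).map f ≫
        (PresheafOfModules.toPresheaf _).map ((shAdj O).unit.app Q)) := by
      rw [← e']
      infer_instance
    exact Presheaf.isLocallySurjective_of_isLocallySurjective_of_isLocallyInjective J _
      ((PresheafOfModules.toPresheaf _).map ((shAdj O).unit.app Q))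
  · intro h
    have h4 : Presheaf.IsLocallySurjective J ((PresheafOfModules.toPresheaf _).map
        ((shAdj O).unit.app P) ≫
      (PresheafOfModules.toPresheaf _).map ((toP O).map ((shP O).map f))) := by
      rw [e']
      infer_instance
    exact Presheaf.isLocallySurjective_of_isLocallySurjective J
      ((PresheafOfModules.toPresheaf _).map ((shAdj O).unit.app P)) _

theorem preservesMono_iff_preservesFiniteLimits (T : ModSite.Mod O ⥤ ModSite.Mod O)
    [PreservesFiniteColimits T] : PreservesFiniteLimits T ↔ T.PreservesMonomorphisms := by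
  have : PreservesColimitsOfShape (Discrete PEmpty.{1}) T :=
    PreservesFiniteColimits.preservesFiniteColimits _
  have : PreservesColimit (Functor.empty.{0} _) T := inferInstance
  have : T.PreservesZeroMorphisms :=
    @Functor.preservesZeroMorphisms_of_preserves_initial_object _ _ _ _ _ _ _ _ T inferInstance
  have : PreservesBinaryBiproducts T := preservesBinaryBiproducts_of_preservesBinaryCoproducts T
  have : T.Additive := Functor.additive_of_preservesBinaryBiproducts T
  constructor
  · intro _
    infer_instance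
  · intro h
    rw [Functor.preservesFiniteLimits_iff_forall_exact_map_and_mono]
    intro S hS
    have := hS.mono_f
    exact ⟨((Functor.preservesFiniteColimits_iff_forall_exact_map_and_epi T).1 inferInstance S hS).1,
      inferInstance⟩

/-- `F` is flat iff `- ⊗ F` preserves monomorphisms. -/
theorem isFlat_iff_preservesMono (F : ModSite.Mod O) :
    ModSite.IsFlat F ↔ ((ModSite.tensorBi O).flip.obj F).PreservesMonomorphisms := by
  rw [← preservesMono_iff_preservesFiniteLimits]
  exact ⟨fun h => h.1, fun h => ⟨h, inferInstance⟩⟩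

theorem isFlat_iff_mono (F : ModSite.Mod O) :
    ModSite.IsFlat F ↔ ∀ {M N : ModSite.Mod O} (f : M ⟶ N), Mono f → Mono (f ▷ F) := by
  rw [isFlat_iff_preservesMono]
  exact ⟨fun h _ _ f _ => h.preserves f, fun h => ⟨fun f hf => h f hf⟩⟩

theorem isFlat_iff_mono_left (F : ModSite.Mod O) :
    ModSite.IsFlat F ↔ ∀ {M N : ModSite.Mod O} (f : M ⟶ N), Mono f → Mono (F ◁ f) := by
  rw [isFlat_iff_mono]
  have key : ∀ {M N : ModSite.Mod O} (f : M ⟶ N), F ◁ f = (β_ F M).hom ≫ f ▷ F ≫ (β_ N F).hom := by
    intro M N f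
    rw [← BraidedCategory.braiding_naturality_right_assoc, SymmetricCategory.symmetry,
        Category.comp_id]
  constructor
  · intro h M N f hf
    have := h f hf
    rw [key]
    infer_instance
  · intro h M N f hf
    have := h f hf
    have e : f ▷ F = (β_ F M).inv ≫ F ◁ f ≫ (β_ N F).inv := by
      rw [key]
      simp only [Category.assoc, Iso.hom_inv_id, Category.comp_id, Iso.inv_hom_id_assoc]
    rw [e]
    infer_instance

/-- For a morphism `f` of sheaves, `f ▷ F` is a monomorphism iff the morphism of presheaves is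
locally injective. -/
theorem mono_whiskerRight_iff {M N : ModSite.Mod O} (f : M ⟶ N) (F : ModSite.Mod O) :
    Mono (f ▷ F) ↔ LI ((toP O).map f ▷ (toP O).obj F) :=
  mono_shP_map_iff _

theorem isFlat_iff_LI_sheaf (F : ModSite.Mod O) :
    ModSite.IsFlat F ↔ ∀ {M N : ModSite.Mod O} (f : M ⟶ N), Mono f →
      LI ((toP O).map f ▷ (toP O).obj F) := by
  rw [isFlat_iff_mono]
  exact forall_congr' fun M => forall_congr' fun N => forall_congr' fun f => forall_congr' fun hf =>
    mono_whiskerRight_iff f F

/-- Local injectivity of `f ▷ P` can be checked after sheafifying `f`. -/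
theorem LI_whiskerRight_iff {P Q : PM O} (f : P ⟶ Q) (F : PM O) :
    LI (f ▷ F) ↔ LI ((toP O).map ((shP O).map f) ▷ F) := by
  have e : (shAdj O).unit.app P ▷ F ≫ (toP O).map ((shP O).map f) ▷ F =
      f ▷ F ≫ (shAdj O).unit.app Q ▷ F := by
    rw [← comp_whiskerRight, ← comp_whiskerRight]
    exact congrArg (· ▷ F) ((shAdj O).unit.naturality f).symm
  have w1 : WO O ((shAdj O).unit.app P ▷ F) := MonW.W_whiskerRight _ (WO_unit O P) F
  have w2 : WO O ((shAdj O).unit.app Q ▷ F) := MonW.W_whiskerRight _ (WO_unit O Q) F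
  constructor
  · intro h
    have h2 : LI ((shAdj O).unit.app P ▷ F ≫ (toP O).map ((shP O).map f) ▷ F) := by
      rw [e]
      exact LI_comp _ _ h (WO_LI _ w2)
    exact LI_of_comp_of_LS _ _ (WO_LS _ w1) h2
  · intro h
    exact LI_of_comp (f ▷ F) _ (e ▸ LI_comp _ _ (WO_LI _ w1) h)

/-- Same on the other side. -/
theorem LI_whiskerLeft_iff {P Q : PM O} (F : PM O) (f : P ⟶ Q) : LI (F ◁ f) ↔ LI (f ▷ F) := by
  have key : ∀ {M N : PM O} (f : M ⟶ N), F ◁ f = (β_ F M).hom ≫ f ▷ F ≫ (β_ N F).hom := by
    intro M N f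
    rw [← BraidedCategory.braiding_naturality_right_assoc, SymmetricCategory.symmetry,
        Category.comp_id]
  have hiso : ∀ {A B : PM O} (e : A ≅ B), LI e.hom := fun e => WO_LI _ (MorphismProperty.of_isIso _ _)
  constructor
  · intro h
    have e : f ▷ F = (β_ F P).symm.hom ≫ F ◁ f ≫ (β_ Q F).symm.hom := by
      rw [key]
      simp only [Iso.symm_hom, Category.assoc, Iso.hom_inv_id, Category.comp_id, Iso.inv_hom_id_assoc]
    rw [e]
    exact LI_comp _ _ (hiso _) (LI_comp _ _ h (hiso _))
  · intro h
    rw [key]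
    exact LI_comp _ _ (hiso _) (LI_comp _ _ h (hiso _))

/-- `F` is flat iff `- ⊗ F` preserves locally injective morphisms of presheaves of modules. -/
theorem isFlat_iff_LI (F : ModSite.Mod O) :
    ModSite.IsFlat F ↔ ∀ {P Q : PM O} (f : P ⟶ Q), LI f → LI (f ▷ (toP O).obj F) := by
  rw [isFlat_iff_LI_sheaf]
  constructor
  · intro h P Q f hf
    rw [LI_whiskerRight_iff]
    exact h _ ((mono_shP_map_iff f).2 hf)
  · intro h M N f hf
    exact h _ ((mono_iff_LI f).1 hf)

/-- `F` is flat iff `- ⊗ F` takes sectionwise injective morphisms of presheaves of modules to locally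
injective ones. -/
theorem isFlat_iff_LI_injective (F : ModSite.Mod O) :
    ModSite.IsFlat F ↔ ∀ {P Q : PM O} (f : P ⟶ Q), (∀ X, Function.Injective (MonW.sec f X)) →
      LI (f ▷ (toP O).obj F) := by
  constructor
  · intro h P Q f hf
    exact (isFlat_iff_LI F).1 h f (LI_of_injective f hf)
  · intro h
    rw [isFlat_iff_LI_sheaf]
    intro M N f hf
    exact h _ ((mono_iff_injective f).1 hf)

/-- Local injectivity of `f ▷ P` only depends on the sheafification of `P`. -/
theorem LI_whiskerRight_sheafify_iff (P : PM O) {A B : PM O} (f : A ⟶ B) :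
    LI (f ▷ (toP O).obj ((shP O).obj P)) ↔ LI (f ▷ P) := by
  have e : f ▷ P ≫ B ◁ (shAdj O).unit.app P = A ◁ (shAdj O).unit.app P ≫
      f ▷ (toP O).obj ((shP O).obj P) := (whisker_exchange f ((shAdj O).unit.app P)).symm
  have w1 : WO O (A ◁ (shAdj O).unit.app P) := MorphismProperty.IsMonoidal.whiskerLeft _ _ (WO_unit O P)
  have w2 : WO O (B ◁ (shAdj O).unit.app P) := MorphismProperty.IsMonoidal.whiskerLeft _ _ (WO_unit O P)
  constructor
  · intro h
    have h2 : LI (A ◁ (shAdj O).unit.app P ≫ f ▷ (toP O).obj ((shP O).obj P)) :=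
      LI_comp _ _ (WO_LI _ w1) h
    rw [← e] at h2
    exact LI_of_comp (f ▷ P) (B ◁ (shAdj O).unit.app P) h2
  · intro h
    have h2 : LI (f ▷ P ≫ B ◁ (shAdj O).unit.app P) := LI_comp _ _ h (WO_LI _ w2)
    rw [e] at h2
    exact LI_of_comp_of_LS _ _ (WO_LS _ w1) h2

/-- Flatness of a sheafification. -/
theorem isFlat_shP_iff (P : PM O) : ModSite.IsFlat ((shP O).obj P) ↔
    ∀ {A B : PM O} (f : A ⟶ B), (∀ X, Function.Injective (MonW.sec f X)) → LI (f ▷ P) := by
  constructor
  · intro h A B f hf
    exact (LI_whiskerRight_sheafify_iff P f).1 ((isFlat_iff_LI_injective _).1 h f hf)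
  · intro h
    refine (isFlat_iff_LI_injective _).2 (fun f hf => ?_)
    exact (LI_whiskerRight_sheafify_iff P f).2 (h f hf)

/-- The sheafification of a presheaf of modules with flat values is flat. -/
theorem isFlat_shP_of_flat (P : PM O) (hP : ∀ X : Cᵒᵖ, Module.Flat (O.obj.obj X) (P.obj X)) :
    ModSite.IsFlat ((shP O).obj P) := by
  rw [isFlat_shP_iff]
  intro A B f hf
  refine LI_of_injective _ (fun X => ?_)
  have := hP X
  exact Module.Flat.rTensor_preserves_injective_linearMap (M := P.obj X) (MonW.sec f X) (hf X)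

end K295.FlatCrit
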