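import Groth.Agent.ModSite.K295.SliceMor
import Groth.Agent.ModSite.K293.PullUnit
import Mathlib.Algebra.Category.ModuleCat.Sheaf.LocallyFree

/-!
# Inverse images of quasi-coherent, finitely presented, locally free modules
-/

set_option autoImplicit false
set_option maxHeartbeats 400000

universe u

open CategoryTheory CategoryTheory.Limits Opposite K295.SliceMor K295.Slice K295.InvRing K293.PullUnit

namespace K295.PullQc

variable {C D : Type u} [SmallCategory C] [SmallCategory D] {J : GrothendieckTopology C}
    {K : GrothendieckTopology D} {O_C : Sheaf J CommRingCat.{u}} {O_D : Sheaf K CommRingCat.{u}}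
    (f : ModSite.RMor O_C O_D) {F : ModSite.Mod O_D}

theorem coversTop {I : Type*} {X : I → D} (hX : K.CoversTop X) : J.CoversTop (fun i => f.fn.obj (X i)) :=
  coversTop_of_coversTop (isCF (f := f)).out X hX

/-- The inverse image of a presentation. -/
noncomputable def presMap (V : D)
    (P : SheafOfModules.Presentation (R := ModSite.ringSh (O_D.over V)) ((ModSite.restr O_D V).obj F)) :
    SheafOfModules.Presentation (R := ModSite.ringSh (O_C.over (f.fn.obj V)))
      ((ModSite.restr O_C (f.fn.obj V)).obj (f.pull.obj F)) :=
  (P.map (sl f V).pull (pullUnitIso (sl f V)).symm).ofIsIso (θ f V F)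

theorem isFinite_presMap (V : D)
    (P : SheafOfModules.Presentation (R := ModSite.ringSh (O_D.over V)) ((ModSite.restr O_D V).obj F)) (hP : P.IsFinite) :
    (presMap f V P).IsFinite := by
  have h1 : (P.map (sl f V).pull (pullUnitIso (sl f V)).symm).IsFinite :=
    { isFiniteType_generators := ⟨hP.isFiniteType_generators.finite⟩
      isFiniteType_relations := ⟨hP.isFiniteType_relations.finite⟩ }
  unfold presMap
  infer_instance

/-- The inverse image of generating sections. -/
noncomputable def genMap (V : D)
    (P : SheafOfModules.GeneratingSections (R := ModSite.ringSh (O_D.over V)) ((ModSite.restr O_D V).obj F)) :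
    SheafOfModules.GeneratingSections (R := ModSite.ringSh (O_C.over (f.fn.obj V)))
      ((ModSite.restr O_C (f.fn.obj V)).obj (f.pull.obj F)) :=
  (P.map (sl f V).pull (pullUnitIso (sl f V)).symm).ofEpi (θ f V F)

theorem isIso_genMap (V : D)
    (P : SheafOfModules.GeneratingSections (R := ModSite.ringSh (O_D.over V)) ((ModSite.restr O_D V).obj F))
    (hP : IsIso P.π) : IsIso (genMap f V P).π := by
  have h1 : IsIso (P.map (sl f V).pull (pullUnitIso (sl f V)).symm).π := inferInstance
  have h2 : (genMap f V P).π = (P.map (sl f V).pull (pullUnitIso (sl f V)).symm).π ≫ θ f V F :=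
    (SheafOfModules.freeHomEquiv_symm_comp _ _).symm
  rw [h2]
  exact IsIso.comp_isIso' h1 (isIso_θ f F)

/-- The inverse image of quasi-coherent data. -/
noncomputable def qcData (q : SheafOfModules.QuasicoherentData.{u} (R := ModSite.ringSh O_D) F) :
    SheafOfModules.QuasicoherentData.{u} (R := ModSite.ringSh O_C) (f.pull.obj F) where
  I := q.I
  X i := f.fn.obj (q.X i)
  coversTop := coversTop f q.coversTop
  presentation i := presMap f (q.X i) (q.presentation i)

/-- The inverse image of local generators data. -/
noncomputable def lgData (q : SheafOfModules.LocalGeneratorsData.{u} (R := ModSite.ringSh O_D) F) :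
    SheafOfModules.LocalGeneratorsData.{u} (R := ModSite.ringSh O_C) (f.pull.obj F) where
  I := q.I
  X i := f.fn.obj (q.X i)
  coversTop := coversTop f q.coversTop
  generators i := genMap f (q.X i) (q.generators i)

theorem isFiniteType_lgData (q : SheafOfModules.LocalGeneratorsData.{u} (R := ModSite.ringSh O_D) F)
    (hq : q.IsFiniteType) : (lgData f q).IsFiniteType where
  isFiniteType i := by
    have := (hq.isFiniteType i).finite
    exact ⟨this⟩

theorem isLocallyFreeData_lgData (q : SheafOfModules.LocalGeneratorsData.{u} (R := ModSite.ringSh O_D) F)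
    (hq : q.IsLocallyFreeData) : (lgData f q).IsLocallyFreeData where
  isIso i := isIso_genMap f (q.X i) (q.generators i) (hq.isIso i)

theorem isFinitePresentation_qcData (q : SheafOfModules.QuasicoherentData.{u} (R := ModSite.ringSh O_D) F)
    (hq : q.IsFinitePresentation) : (qcData f q).IsFinitePresentation where
  isFinite_presentation i := isFinite_presMap f (q.X i) (q.presentation i) (hq.isFinite_presentation i)

theorem isQuasicoherent_pull (F : ModSite.Mod O_D)
    (h : SheafOfModules.IsQuasicoherent.{u, u, u} (R := ModSite.ringSh O_D) F) :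
    SheafOfModules.IsQuasicoherent.{u, u, u} (R := ModSite.ringSh O_C) (f.pull.obj F) :=
  (qcData f h.nonempty_quasicoherentData.some).isQuasicoherent

theorem isFiniteType_pull (F : ModSite.Mod O_D)
    (h : SheafOfModules.IsFiniteType.{u, u, u} (R := ModSite.ringSh O_D) F) :
    SheafOfModules.IsFiniteType.{u, u, u} (R := ModSite.ringSh O_C) (f.pull.obj F) := by
  obtain ⟨σ, hσ⟩ := h.exists_localGeneratorsData
  have := isFiniteType_lgData f σ hσ
  exact { exists_localGeneratorsData := ⟨lgData f σ, this⟩ }

theorem isFinitePresentation_pull (F : ModSite.Mod O_D)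
    (h : SheafOfModules.IsFinitePresentation.{u, u, u} (R := ModSite.ringSh O_D) F) :
    SheafOfModules.IsFinitePresentation.{u, u, u} (R := ModSite.ringSh O_C) (f.pull.obj F) := by
  obtain ⟨σ, hσ⟩ := h.exists_quasicoherentData
  have := isFinitePresentation_qcData f σ hσ
  exact { exists_quasicoherentData := ⟨qcData f σ, this⟩ }

theorem isLocallyFree_pull (F : ModSite.Mod O_D)
    (h : SheafOfModules.IsLocallyFree.{u, u, u} (R := ModSite.ringSh O_D) F) :
    SheafOfModules.IsLocallyFree.{u, u, u} (R := ModSite.ringSh O_C) (f.pull.obj F) := by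
  obtain ⟨σ, hσ⟩ := h.exists_isLocallyFreeData
  have := isLocallyFreeData_lgData f σ hσ
  exact (lgData f σ).isLocallyFree

end K295.PullQc
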