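import Groth.Agent.Dcoh.MonW
import Groth.Agent.Sga4A.ModShriek
import Mathlib.Algebra.Category.ModuleCat.Presheaf.Submodule

/-!
# Equational criterion of flatness for presheaves of modules on a site

`RelTriv J M`: relations `∑ f j • s j = 0` between sections of `M` are locally trivial.

* `RelTriv.system`: then so are finite systems of relations;
* `RelTriv.LI_whiskerRight`: then `- ⊗ M` preserves locally injective morphisms;
* `relTriv_of_LI`: the converse.
-/

set_option autoImplicit false

open CategoryTheory MonoidalCategory Opposite Groth.Agent.Dcoh.MonW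

universe u v' u'

namespace K295.EqCrit

section Def

variable {C : Type u'} [Category.{v'} C] (J : GrothendieckTopology C) {R : Cᵒᵖ ⥤ CommRingCat.{u}}

/-- Relations between sections of `M` are locally trivial. -/
def RelTriv (M : PM R) : Prop :=
  ∀ (U : C) (n : ℕ) (f : Fin n → R.obj (op U)) (s : Fin n → M.obj (op U)),
    ∑ j, f j • s j = 0 →
    ∃ S ∈ J U, ∀ ⦃V : C⦄ (g : V ⟶ U), S g →
      ∃ (l : ℕ) (t : Fin l → M.obj (op V)) (a : Fin n → Fin l → R.obj (op V)),
        (∀ j, res M g.op (s j) = ∑ k, a j k • t k) ∧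
        (∀ k, ∑ j, a j k * R.map g.op (f j) = 0)

variable {J}

/-- The factorization of a finite system of relations. -/
structure Fac {M : PM R} {U V : C} (g : V ⟶ U) {ι κ : Type} [Fintype ι]
    (f : κ → ι → R.obj (op U)) (s : ι → M.obj (op U)) where
  /-- the number of new sections -/
  l : ℕ
  /-- the new sections -/
  t : Fin l → M.obj (op V)
  /-- the coefficients -/
  a : ι → Fin l → R.obj (op V)
  eq : ∀ j, res M g.op (s j) = ∑ k, a j k • t k
  rel : ∀ i k, ∑ j, a j k * R.map g.op (f i j) = 0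

theorem RelTriv.fin {M : PM R} (hM : RelTriv J M) {U : C} (m n : ℕ)
    (f : Fin m → Fin n → R.obj (op U)) (s : Fin n → M.obj (op U))
    (h : ∀ i, ∑ j, f i j • s j = 0) :
    ∃ S ∈ J U, ∀ ⦃V : C⦄ (g : V ⟶ U), S g → Nonempty (Fac g f s) := by
  classical
  induction m generalizing U n with
  | zero =>
    refine ⟨⊤, J.top_mem U, fun V g _ => ⟨⟨n, fun j => res M g.op (s j),
      fun i j => if i = j then 1 else 0, fun j => ?_, fun i => i.elim0⟩⟩⟩
    simp
  | succ m ih =>
    obtain ⟨S, hS, H⟩ := hM U n (f 0) s (h 0)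
    have key : ∀ ⦃V : C⦄ (g : V ⟶ U), S g → ∃ T ∈ J V, ∀ ⦃W : C⦄ (k : W ⟶ V), T k →
        Nonempty (Fac (k ≫ g) f s) := by
      intro V g hg
      obtain ⟨l, t, a, h1, h2⟩ := H g hg
      let f' : Fin m → Fin l → R.obj (op V) := fun i k => ∑ j, a j k * R.map g.op (f i.succ j)
      have hf' : ∀ i, ∑ k, f' i k • t k = 0 := by
        intro i
        have e : ∑ k, f' i k • t k = ∑ j, R.map g.op (f i.succ j) • ∑ k, a j k • t k := by
          simp only [f', Finset.sum_smul, Finset.smul_sum]
          rw [Finset.sum_comm]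
          refine Finset.sum_congr rfl fun j _ => Finset.sum_congr rfl fun k _ => ?_
          rw [smul_smul, mul_comm]
        rw [e]
        have e2 : ∑ j, R.map g.op (f i.succ j) • ∑ k, a j k • t k =
            res M g.op (∑ j, f i.succ j • s j) := by
          simp only [map_sum, res_smul, h1]
        rw [e2, h, map_zero]
      obtain ⟨T, hT, HT⟩ := ih l f' t hf'
      refine ⟨T, hT, fun W k hk => ?_⟩
      obtain ⟨⟨l', t', b, h3, h4⟩⟩ := HT k hk
      refine ⟨⟨l', t', fun j p => ∑ q, R.map k.op (a j q) * b q p, fun j => ?_, fun i p => ?_⟩⟩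
      · rw [op_comp, res_comp, h1]
        simp only [map_sum, res_smul, h3, Finset.smul_sum, Finset.sum_smul, smul_smul]
        rw [Finset.sum_comm]
      · simp only [Finset.sum_mul]
        rw [Finset.sum_comm]
        have e3 : ∀ q, ∑ j, R.map k.op (a j q) * b q p * R.map (k ≫ g).op (f i j) =
            b q p * R.map k.op (∑ j, a j q * R.map g.op (f i j)) := by
          intro q
          rw [map_sum, Finset.mul_sum]
          refine Finset.sum_congr rfl fun j _ => ?_
          rw [map_mul, op_comp, Functor.map_comp, CommRingCat.comp_apply]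
          ring
        simp only [e3]
        refine Fin.cases ?_ (fun i => ?_) i
        · simp only [h2, map_zero, mul_zero, Finset.sum_const_zero]
        · exact h4 i p
    choose T hT HT using key
    refine ⟨Sieve.bind S.arrows fun V i hi => T i hi, J.bind_covering hS fun V i hi => hT i hi, ?_⟩
    rintro W _ ⟨V, j, i, hi', hj, rfl⟩
    exact HT i hi' j hj

/-- Finite systems of relations are locally trivial. -/
theorem RelTriv.system {M : PM R} (hM : RelTriv J M) {U : C} {ι κ : Type} [Fintype ι] [Finite κ]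
    (f : κ → ι → R.obj (op U)) (s : ι → M.obj (op U)) (h : ∀ i, ∑ j, f i j • s j = 0) :
    ∃ S ∈ J U, ∀ ⦃V : C⦄ (g : V ⟶ U), S g → Nonempty (Fac g f s) := by
  classical
  have := Fintype.ofFinite κ
  let e : ι ≃ Fin (Fintype.card ι) := Fintype.equivFin ι
  let e' : κ ≃ Fin (Fintype.card κ) := Fintype.equivFin κ
  obtain ⟨S, hS, H⟩ := hM.fin (Fintype.card κ) (Fintype.card ι) (fun i j => f (e'.symm i) (e.symm j))
    (fun j => s (e.symm j)) (fun i => by
      rw [e.symm.sum_comp (fun j => f (e'.symm i) j • s j)]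
      exact h _)
  refine ⟨S, hS, fun V g hg => ?_⟩
  obtain ⟨⟨l, t, a, h1, h2⟩⟩ := H g hg
  refine ⟨⟨l, t, fun j k => a (e j) k, fun j => ?_, fun i k => ?_⟩⟩
  · rw [← h1]
    simp
  · rw [← h2 (e' i) k, ← e.symm.sum_comp (fun j => a (e j) k * R.map g.op (f i j))]
    simp

theorem RelTriv.LI_whiskerRight {M : PM R} (hM : RelTriv J M) {P Q : PM R} (φ : P ⟶ Q)
    (hφ : Presheaf.IsLocallyInjective J ((PresheafOfModules.toPresheaf _).map φ)) :
    Presheaf.IsLocallyInjective J ((PresheafOfModules.toPresheaf _).map (φ ▷ M)) := by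
  rw [isLocallyInjective_iff] at hφ ⊢
  intro U x h0
  change TensorProduct (R.obj (op U)) (P.obj (op U)) (M.obj (op U)) at x
  change LinearMap.rTensor (M.obj (op U)) (sec φ (op U)) x = 0 at h0
  change ∃ S ∈ J U, ∀ ⦃V : C⦄ (i : V ⟶ U), S i → resT P M i.op x = 0
  obtain ⟨k, m, s, rfl⟩ := TensorProduct.exists_sum_tmul_eq x
  simp only [map_sum, LinearMap.rTensor_tmul] at h0
  have h0' : ∑ c, s c ⊗ₜ[R.obj (op U)] sec φ (op U) (m c) = 0 := by
    have := congrArg (TensorProduct.comm (R.obj (op U)) (Q.obj (op U)) (M.obj (op U))) h0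
    simpa only [map_sum, TensorProduct.comm_tmul, map_zero] using this
  obtain ⟨l, q, κ, a, y, h1, h2⟩ := exists_vanishesTrivially _ _ h0'
  obtain ⟨S, hS, H⟩ := hM.system (fun c j => a j c) (Sum.elim s q) h2
  have key : ∀ ⦃V : C⦄ (g : V ⟶ U), S g → ∃ T ∈ J V, ∀ ⦃W : C⦄ (j : W ⟶ V), T j →
      resT P M (j ≫ g).op (∑ c, m c ⊗ₜ[R.obj (op U)] s c) = 0 := by
    intro V g hg
    obtain ⟨⟨l', t, b, h3, h4⟩⟩ := H g hg
    let w : Fin l' → P.obj (op V) := fun p => ∑ c, b (Sum.inl c) p • res P g.op (m c)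
    have hw : ∀ p, sec φ (op V) (w p) = 0 := by
      intro p
      have e1 : sec φ (op V) (w p) = ∑ i : Fin k ⊕ Fin l, b i p •
          res Q g.op (Sum.elim (fun c => sec φ (op U) (m c)) 0 i) := by
        rw [Fintype.sum_sum_type]
        simp only [w, map_sum, map_smul, sec_res, Sum.elim_inl, Sum.elim_inr, Pi.zero_apply,
          map_zero, smul_zero, Finset.sum_const_zero, add_zero]
      rw [e1]
      have e2 : ∀ i, b i p • res Q g.op (Sum.elim (fun c => sec φ (op U) (m c)) 0 i) =
          ∑ c, (b i p * R.map g.op (a i c)) • res Q g.op (y c) := by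
        intro i
        rw [h1 i, map_sum, Finset.smul_sum]
        refine Finset.sum_congr rfl fun c _ => ?_
        rw [res_smul, smul_smul]
      simp only [e2]
      rw [Finset.sum_comm]
      simp only [← Finset.sum_smul, h4, zero_smul, Finset.sum_const_zero]
    choose T hT HT using fun p => hφ V (w p) (hw p)
    refine ⟨⨅ p, T p, iInf_mem _ hT, fun W j hj => ?_⟩
    rw [iInf_arrows_iff] at hj
    rw [resT_sum]
    have e3 : ∀ c, res M (j ≫ g).op (s c) = ∑ p, R.map j.op (b (Sum.inl c) p) • res M j.op (t p) := by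
      intro c
      rw [op_comp, res_comp]
      have := h3 (Sum.inl c)
      simp only [Sum.elim_inl] at this
      rw [this, map_sum]
      refine Finset.sum_congr rfl fun p _ => ?_
      rw [res_smul]
    simp only [e3, TensorProduct.tmul_sum, TensorProduct.tmul_smul]
    rw [Finset.sum_comm]
    refine Finset.sum_eq_zero fun p _ => ?_
    have e4 : ∑ c, R.map j.op (b (Sum.inl c) p) • (res P (j ≫ g).op (m c) ⊗ₜ[R.obj (op W)] res M j.op (t p)) =
        (res P j.op (w p)) ⊗ₜ[R.obj (op W)] res M j.op (t p) := by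
      simp only [w, map_sum, res_smul, op_comp, res_comp, TensorProduct.sum_tmul]
      refine Finset.sum_congr rfl fun c _ => ?_
      rw [TensorProduct.smul_tmul']
    rw [e4, HT p j (hj p), TensorProduct.zero_tmul]
  choose T hT HT using key
  refine ⟨Sieve.bind S.arrows fun V i hi => T i hi, J.bind_covering hS fun V i hi => hT i hi, ?_⟩
  rintro W _ ⟨V, j, i, hi', hj, rfl⟩
  exact HT i hi' j hj

end Def

section Converse

open Groth.Agent.Sga4A.ModShriek (rover fib shObj of resFib shMapApp shMap sh proj)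
open scoped TensorProduct

variable {C : Type u} [SmallCategory C] (J : GrothendieckTopology C) {R : Cᵒᵖ ⥤ CommRingCat.{u}}

/-- The presheaf of rings on `Over U`. -/
noncomputable abbrev RU (R : Cᵒᵖ ⥤ CommRingCat.{u}) (U : C) : (Over U)ᵒᵖ ⥤ RingCat.{u} :=
  rover (R ⋙ forget₂ CommRingCat.{u} RingCat.{u}) U

/-- The restrictions of the `f j`. -/
noncomputable def gen {U : C} {n : ℕ} (f : Fin n → R.obj (op U)) (Y : (Over U)ᵒᵖ) (j : Fin n) :
    (PresheafOfModules.unit (RU R U)).obj Y :=
  (R.map Y.unop.hom.op) (f j)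

theorem gen_res {U : C} {n : ℕ} (f : Fin n → R.obj (op U)) {Y Z : (Over U)ᵒᵖ} (g : Y ⟶ Z) (j : Fin n) :
    ((PresheafOfModules.unit (RU R U)).map g).hom (gen f Y j) = gen f Z j := by
  change (R.map g.unop.left.op) ((R.map Y.unop.hom.op) (f j)) = (R.map Z.unop.hom.op) (f j)
  rw [← CommRingCat.comp_apply, ← Functor.map_comp, ← op_comp, Over.w]

/-- The ideal generated by finitely many sections over `U`, as a presheaf on `Over U`. -/
noncomputable def idl {U : C} {n : ℕ} (f : Fin n → R.obj (op U)) :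
    (PresheafOfModules.unit (RU R U)).Submodule where
  obj Y := Submodule.span ((RU R U).obj Y) (Set.range (gen f Y))
  map {Y Z} g := by
    rw [Submodule.span_le]
    rintro _ ⟨j, rfl⟩
    exact Submodule.subset_span ⟨j, (gen_res f g j).symm⟩

/-- The generators of the ideal. -/
noncomputable def igen {U : C} {n : ℕ} (f : Fin n → R.obj (op U)) (Y : (Over U)ᵒᵖ) (j : Fin n) :
    (idl f).toPresheafOfModules.obj Y :=
  (⟨gen f Y j, Submodule.subset_span ⟨j, rfl⟩⟩ : (idl f).obj Y)

theorem igen_res {U : C} {n : ℕ} (f : Fin n → R.obj (op U)) {Y Z : (Over U)ᵒᵖ} (g : Y ⟶ Z) (j : Fin n) :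
    ((idl f).toPresheafOfModules.map g).hom (igen f Y j) = igen f Z j :=
  Subtype.ext (gen_res f g j)

/-- The inclusion of the extension by zero of the ideal. -/
noncomputable def incl {U : C} {n : ℕ} (f : Fin n → R.obj (op U)) :
    (sh (idl f).toPresheafOfModules : PM R) ⟶ (sh (PresheafOfModules.unit (RU R U)) : PM R) :=
  shMap (idl f).ι

theorem incl_injective {U : C} {n : ℕ} (f : Fin n → R.obj (op U)) (X : Cᵒᵖ) :
    Function.Injective (sec (incl f) X) :=
  Groth.Agent.Sga4A.ModShriek.shMapApp_injective (idl f).ι (fun _ => Subtype.val_injective) X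

/-- The section `1` over `U` of the extension by zero of `R|U`. -/
noncomputable def one (R : Cᵒᵖ ⥤ CommRingCat.{u}) (U : C) :
    (sh (PresheafOfModules.unit (RU R U)) : PM R).obj (op U) :=
  of (PresheafOfModules.unit (RU R U)) (op U) (𝟙 U) (1 : R.obj (op U))

theorem sec_incl {U : C} {n : ℕ} (f : Fin n → R.obj (op U)) (j : Fin n) :
    sec (incl f) (op U) (of (idl f).toPresheafOfModules (op U) (𝟙 U) (igen f _ j)) =
      f j • one R U := by
  refine (Groth.Agent.Sga4A.ModShriek.shMapApp_of (idl f).ι (op U) (𝟙 U) (igen f _ j)).trans ?_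
  unfold one
  refine Eq.trans ?_ ((of (PresheafOfModules.unit (RU R U)) (op U) (𝟙 U)).map_smul (f j) _)
  congr 1
  change (R.map (𝟙 (op U))) (f j) = (f j * 1 : R.obj (op U))
  simp

noncomputable instance modFib {U V : C} (M : PresheafOfModules.{u} (RU R U)) (h : V ⟶ U) :
    Module (R.obj (op V)) (fib M (op V) h) :=
  inferInstanceAs (Module ((R ⋙ forget₂ CommRingCat.{u} RingCat.{u}).obj (op V)) (fib M (op V) h))

/-- Projection to a component. -/
noncomputable def pr {U V : C} (M : PresheafOfModules.{u} (RU R U)) (h : V ⟶ U) :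
    (sh M : PM R).obj (op V) →ₗ[R.obj (op V)] fib M (op V) h :=
  proj M (op V) h

/-- The inclusion of the ideal. -/
noncomputable def isub {U V : C} {n : ℕ} (f : Fin n → R.obj (op U)) (h : V ⟶ U) :
    fib (idl f).toPresheafOfModules (op V) h →ₗ[R.obj (op V)] R.obj (op V) where
  toFun z := z.1
  map_add' _ _ := rfl
  map_smul' _ _ := rfl

theorem isub_igen {U V : C} {n : ℕ} (f : Fin n → R.obj (op U)) (h : V ⟶ U) (j : Fin n) :
    isub f h (igen f (op (Over.mk h)) j) = R.map h.op (f j) := rfl

theorem span_igen {U V : C} {n : ℕ} (f : Fin n → R.obj (op U)) (h : V ⟶ U) :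
    Submodule.span (R.obj (op V)) (Set.range (fun j =>
      (igen f (op (Over.mk h)) j : fib (idl f).toPresheafOfModules (op V) h))) = ⊤ := by
  rw [eq_top_iff]
  rintro ⟨x, hx⟩ -
  change x ∈ Submodule.span ((RU R U).obj (op (Over.mk h))) (Set.range (gen f (op (Over.mk h)))) at hx
  induction hx using Submodule.span_induction with
  | mem x hx =>
    obtain ⟨j, rfl⟩ := hx
    exact Submodule.subset_span ⟨j, rfl⟩
  | zero => exact Submodule.zero_mem _
  | add x y hx hy h1 h2 => exact Submodule.add_mem _ h1 h2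
  | smul a x hx h1 => exact Submodule.smul_mem _ (a : R.obj (op V)) h1

/-- If `- ⊗ M` takes injective morphisms to locally injective ones then relations in `M` are locally
trivial. -/
theorem relTriv_of_LI (M : PM R) (h : ∀ {P Q : PM R} (φ : P ⟶ Q),
    (∀ X, Function.Injective (sec φ X)) →
      Presheaf.IsLocallyInjective J ((PresheafOfModules.toPresheaf _).map (φ ▷ M))) :
    RelTriv J M := by
  intro U n f s hs
  have h1 := h (incl f) (incl_injective f)
  rw [isLocallyInjective_iff] at h1
  let x : (sh (idl f).toPresheafOfModules : PM R).obj (op U) ⊗[R.obj (op U)] M.obj (op U) :=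
    ∑ j, (of (idl f).toPresheafOfModules (op U) (𝟙 U) (igen f _ j)) ⊗ₜ s j
  have hx : LinearMap.rTensor (M.obj (op U)) (sec (incl f) (op U)) x = 0 := by
    simp only [x, map_sum, LinearMap.rTensor_tmul, sec_incl, TensorProduct.smul_tmul,
      ← TensorProduct.tmul_sum, hs, TensorProduct.tmul_zero]
  obtain ⟨S, hS, H⟩ := h1 U x hx
  refine ⟨S, hS, fun V g hg => ?_⟩
  have h2 : resT (sh (idl f).toPresheafOfModules : PM R) M g.op x = 0 := H g hg
  let I := (idl f).toPresheafOfModules
  have e1 : ∀ j, pr I (g ≫ 𝟙 U) (res (sh I : PM R) g.op (of I (op U) (𝟙 U) (igen f _ j))) =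
      igen f (op (Over.mk (g ≫ 𝟙 U))) j := by
    intro j
    have e2 : res (sh I : PM R) g.op (of I (op U) (𝟙 U) (igen f _ j)) =
        of I (op V) (g ≫ 𝟙 U) (igen f (op (Over.mk (g ≫ 𝟙 U))) j) := by
      refine (Groth.Agent.Sga4A.ModShriek.res_of I g.op (𝟙 U) (igen f _ j)).trans ?_
      congr 1
      exact igen_res f _ j
    rw [e2]
    exact Groth.Agent.Sga4A.ModShriek.of_apply_same I (op V) (g ≫ 𝟙 U) (igen f _ j)
  have h3 : ∑ j, (igen f (op (Over.mk (g ≫ 𝟙 U))) j : fib I (op V) (g ≫ 𝟙 U)) ⊗ₜ[R.obj (op V)]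
      res M g.op (s j) = 0 := by
    have := congrArg (LinearMap.rTensor (M.obj (op V)) (pr I (g ≫ 𝟙 U))) h2
    rw [map_zero, resT_sum, map_sum] at this
    simp only [LinearMap.rTensor_tmul] at this
    rw [← this]
    refine Finset.sum_congr rfl fun j _ => ?_
    congr 1
    exact (e1 j).symm
  obtain ⟨κ, a, y, h4, h5⟩ :=
    TensorProduct.vanishesTrivially_of_sum_tmul_eq_zero _ (span_igen f (g ≫ 𝟙 U)) h3
  refine ⟨κ, y, a, h4, fun k => ?_⟩
  have h6 := congrArg (isub f (g ≫ 𝟙 U)) (h5 k)
  rw [map_sum, map_zero] at h6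
  rw [← h6]
  refine Finset.sum_congr rfl fun j _ => ?_
  rw [map_smul, isub_igen, Category.comp_id, smul_eq_mul]

/-- Equational criterion for presheaves of modules. -/
theorem relTriv_iff (M : PM R) : RelTriv J M ↔ ∀ {P Q : PM R} (φ : P ⟶ Q),
    (∀ X, Function.Injective (sec φ X)) →
      Presheaf.IsLocallyInjective J ((PresheafOfModules.toPresheaf _).map (φ ▷ M)) := by
  refine ⟨fun h P Q φ hφ => h.LI_whiskerRight φ ?_, relTriv_of_LI J M⟩
  exact Presheaf.isLocallyInjective_of_injective J _ hφ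

end Converse

end K295.EqCrit
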