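import Groth.Agent.ModSite.K295.StalkRing
import Groth.Agent.S9095
import Mathlib.RingTheory.Flat.EquationalCriterion

/-!
# Stalks of modules at points of a ringed site, elementwise; flatness and stalks
-/

set_option autoImplicit false

universe u

open CategoryTheory Opposite

namespace K295.Stalks

variable {C : Type u} [SmallCategory C] {J : GrothendieckTopology C}
  (p : GrothendieckTopology.Point.{u} J)

/-- Finitely many neighbourhoods of a point have a common refinement. -/
theorem common {ι : Type*} [Finite ι] (X : ι → C) (x : ∀ i, p.fiber.obj (X i)) :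
    ∃ (W : C) (w : p.fiber.obj W) (g : ∀ i, W ⟶ X i), ∀ i, p.fiber.map (g i) w = x i := by
  classical
  have := Fintype.ofFinite ι
  obtain ⟨S, hS⟩ := IsCofiltered.inf_objs_exists
    (Finset.univ.image (fun i => p.fiber.elementsMk (X i) (x i)))
  have h : ∀ i, Nonempty (S ⟶ p.fiber.elementsMk (X i) (x i)) := fun i =>
    hS (Finset.mem_image_of_mem _ (Finset.mem_univ i))
  exact ⟨S.1, S.2, fun i => (h i).some.1, fun i => (h i).some.2⟩

variable {O : Sheaf J CommRingCat.{u}} (F : ModSite.Mod O)

/-- Restriction of sections. -/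
noncomputable abbrev rs {X Y : C} (g : Y ⟶ X) (s : ModSite.sect F X) : ModSite.sect F Y :=
  (F.val.map g.op).hom s

theorem rs_add {X Y : C} (g : Y ⟶ X) (s t : ModSite.sect F X) :
    rs F g (s + t) = rs F g s + rs F g t := (F.val.map g.op).hom.map_add s t

theorem rs_sum {X Y : C} (g : Y ⟶ X) {ι : Type*} (S : Finset ι) (s : ι → ModSite.sect F X) :
    rs F g (∑ i ∈ S, s i) = ∑ i ∈ S, rs F g (s i) := map_sum (F.val.map g.op).hom s S

theorem rs_smul {X Y : C} (g : Y ⟶ X) (r : O.obj.obj (op X)) (s : ModSite.sect F X) :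
    rs F g (r • s) = (O.obj.map g.op).hom r • rs F g s := F.val.map_smul g.op r s

theorem rs_comp {X Y Z : C} (g : Y ⟶ X) (h : Z ⟶ Y) (s : ModSite.sect F X) :
    rs F (h ≫ g) s = rs F h (rs F g s) := by
  have := ConcreteCategory.congr_hom (F.val.presheaf.map_comp g.op h.op) s
  exact this

theorem rs_zero {X Y : C} (g : Y ⟶ X) : rs F g (0 : ModSite.sect F X) = 0 :=
  (F.val.map g.op).hom.map_zero

theorem exists_germ (a : ModSite.stalkAb p F) : ∃ (X : C) (x : p.fiber.obj X) (s : ModSite.sect F X),
    ModSite.germ p F X x s = a :=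
  p.toPresheafFiber_jointly_surjective (P := (ModSite.toAb F).obj) a

theorem germ_res {X Y : C} (g : Y ⟶ X) (y : p.fiber.obj Y) (s : ModSite.sect F X) :
    ModSite.germ p F Y y (rs F g s) = ModSite.germ p F X (p.fiber.map g y) s :=
  p.toPresheafFiber_w_apply g y (ModSite.toAb F).obj s

theorem germ_res' {X Y : C} (g : Y ⟶ X) (y : p.fiber.obj Y) (x : p.fiber.obj X)
    (h : p.fiber.map g y = x) (s : ModSite.sect F X) :
    ModSite.germ p F Y y (rs F g s) = ModSite.germ p F X x s := by
  subst h
  exact germ_res p F g y s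

theorem germ_eq_iff {X : C} (x : p.fiber.obj X) (r s : ModSite.sect F X) :
    ModSite.germ p F X x r = ModSite.germ p F X x s ↔ ∃ (Y : C) (g : Y ⟶ X)
      (y : p.fiber.obj Y), p.fiber.map g y = x ∧ rs F g r = rs F g s :=
  p.toPresheafFiber_eq_iff' (P := (ModSite.toAb F).obj) X x r s

theorem germ_add {X : C} (x : p.fiber.obj X) (s t : ModSite.sect F X) :
    ModSite.germ p F X x (s + t) = ModSite.germ p F X x s + ModSite.germ p F X x t :=
  map_add (p.toPresheafFiber X x (ModSite.toAb F).obj).hom s t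

theorem germ_zero {X : C} (x : p.fiber.obj X) : ModSite.germ p F X x 0 = 0 :=
  map_zero (p.toPresheafFiber X x (ModSite.toAb F).obj).hom

theorem germ_sum {X : C} (x : p.fiber.obj X) {ι : Type*} (S : Finset ι) (s : ι → ModSite.sect F X) :
    ModSite.germ p F X x (∑ i ∈ S, s i) = ∑ i ∈ S, ModSite.germ p F X x (s i) :=
  map_sum (p.toPresheafFiber X x (ModSite.toAb F).obj).hom s S

theorem germR_add {X : C} (x : p.fiber.obj X) (s t : O.obj.obj (op X)) :
    ModSite.germRing (O := O) p X x (s + t) = ModSite.germRing p X x s + ModSite.germRing p X x t :=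
  map_add (p.toPresheafFiber X x O.obj).hom s t

theorem germR_mul {X : C} (x : p.fiber.obj X) (s t : O.obj.obj (op X)) :
    ModSite.germRing (O := O) p X x (s * t) = ModSite.germRing p X x s * ModSite.germRing p X x t :=
  map_mul (p.toPresheafFiber X x O.obj).hom s t

theorem germR_zero {X : C} (x : p.fiber.obj X) : ModSite.germRing (O := O) p X x 0 = 0 :=
  map_zero (p.toPresheafFiber X x O.obj).hom

theorem germR_one {X : C} (x : p.fiber.obj X) : ModSite.germRing (O := O) p X x 1 = 1 :=
  map_one (p.toPresheafFiber X x O.obj).hom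

theorem germR_sum {X : C} (x : p.fiber.obj X) {ι : Type*} (S : Finset ι) (s : ι → O.obj.obj (op X)) :
    ModSite.germRing (O := O) p X x (∑ i ∈ S, s i) = ∑ i ∈ S, ModSite.germRing p X x (s i) :=
  map_sum (p.toPresheafFiber X x O.obj).hom s S

theorem germR_res' {X Y : C} (g : Y ⟶ X) (y : p.fiber.obj Y) (x : p.fiber.obj X)
    (h : p.fiber.map g y = x) (s : O.obj.obj (op X)) :
    ModSite.germRing (O := O) p Y y ((O.obj.map g.op).hom s) = ModSite.germRing p X x s := by
  subst h
  exact StalkRing.germ_res O p g y s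

/-- Finitely many germs of functions and of sections live on a common neighbourhood, which may be
chosen to map to a given one. -/
theorem exists_germs {ι κ : Type*} [Finite ι] [Finite κ] (a : ι → ModSite.stalkRing p O)
    (b : κ → ModSite.stalkAb p F) (U : C) (u : p.fiber.obj U) :
    ∃ (X : C) (x : p.fiber.obj X) (g : X ⟶ U) (r : ι → O.obj.obj (op X)) (s : κ → ModSite.sect F X),
      p.fiber.map g x = u ∧
      (∀ i, ModSite.germRing p X x (r i) = a i) ∧ (∀ k, ModSite.germ p F X x (s k) = b k) := by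
  choose X x r hr using fun i => StalkRing.exists_germ O p (a i)
  choose Y y s hs using fun k => exists_germ p F (b k)
  obtain ⟨W, w, g, hg⟩ := common p (ι := Option (ι ⊕ κ))
    (fun i => Option.elim i U (Sum.elim X Y))
    (fun i => match i with
      | none => u
      | some (Sum.inl i) => x i
      | some (Sum.inr k) => y k)
  refine ⟨W, w, g none, fun i => (O.obj.map (g (some (Sum.inl i))).op).hom (r i),
    fun k => rs F (g (some (Sum.inr k))) (s k), hg none, fun i => ?_, fun k => ?_⟩
  · rw [← hr i]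
    exact germR_res' p _ w _ (hg (some (Sum.inl i))) _
  · rw [← hs k]
    exact germ_res' p F _ w _ (hg (some (Sum.inr k))) _

/-- Finitely many equalities between germs hold on a smaller neighbourhood. -/
theorem eq_of_germs {n m : ℕ} {X : C} (x : p.fiber.obj X) (r r' : Fin n → O.obj.obj (op X))
    (s s' : Fin m → ModSite.sect F X)
    (hr : ∀ i, ModSite.germRing (O := O) p X x (r i) = ModSite.germRing p X x (r' i))
    (hs : ∀ i, ModSite.germ p F X x (s i) = ModSite.germ p F X x (s' i)) :
    ∃ (Y : C) (g : Y ⟶ X) (y : p.fiber.obj Y), p.fiber.map g y = x ∧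
      (∀ i, (O.obj.map g.op).hom (r i) = (O.obj.map g.op).hom (r' i)) ∧
      (∀ i, rs F g (s i) = rs F g (s' i)) := by
  induction n generalizing X with
  | zero =>
    induction m generalizing X with
    | zero => exact ⟨X, 𝟙 X, x, by simp, fun i => i.elim0, fun i => i.elim0⟩
    | succ m ih =>
      obtain ⟨Y, g, y, rfl, h⟩ := (germ_eq_iff p F x (s 0) (s' 0)).1 (hs 0)
      obtain ⟨Z, k, z, rfl, -, h2⟩ := ih (X := Y) y (fun i => i.elim0) (fun i => i.elim0)
        (fun i => rs F g (s i.succ)) (fun i => rs F g (s' i.succ)) (fun i => i.elim0)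
        (fun i => by rw [germ_res, germ_res]; exact hs i.succ)
      refine ⟨Z, k ≫ g, z, by simp, fun i => i.elim0, fun i => ?_⟩
      rw [rs_comp, rs_comp]
      refine Fin.cases ?_ (fun i => ?_) i
      · rw [h]
      · exact h2 i
  | succ n ih =>
    obtain ⟨Y, g, y, rfl, h⟩ := (StalkRing.germ_eq_iff O p x (r 0) (r' 0)).1 (hr 0)
    obtain ⟨Z, k, z, rfl, h1, h2⟩ := ih (X := Y) y (fun i => (O.obj.map g.op).hom (r i.succ))
      (fun i => (O.obj.map g.op).hom (r' i.succ)) (fun i => rs F g (s i)) (fun i => rs F g (s' i))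
      (fun i => by rw [StalkRing.germ_res, StalkRing.germ_res]; exact hr i.succ)
      (fun i => by rw [germ_res, germ_res]; exact hs i)
    refine ⟨Z, k ≫ g, z, by simp, fun i => ?_, fun i => ?_⟩
    · rw [op_comp, Functor.map_comp, CommRingCat.hom_comp, RingHom.comp_apply, RingHom.comp_apply]
      refine Fin.cases ?_ (fun i => ?_) i
      · rw [h]
      · exact h1 i
    · rw [rs_comp, rs_comp]
      exact h2 i

/-- The relation is trivial over `V`. -/
def TrivRel {V : C} {n : ℕ} (f : Fin n → O.obj.obj (op V)) (s : Fin n → ModSite.sect F V) : Prop :=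
  ∃ (l : ℕ) (t : Fin l → ModSite.sect F V) (a : Fin n → Fin l → O.obj.obj (op V)),
    (∀ j, s j = ∑ k, a j k • t k) ∧ (∀ k, ∑ j, a j k * f j = 0)

theorem TrivRel.res {V W : C} (g : W ⟶ V) {n : ℕ} {f : Fin n → O.obj.obj (op V)}
    {s : Fin n → ModSite.sect F V} (h : TrivRel F f s) :
    TrivRel F (fun j => (O.obj.map g.op).hom (f j)) (fun j => rs F g (s j)) := by
  obtain ⟨l, t, a, h1, h2⟩ := h
  refine ⟨l, fun k => rs F g (t k), fun j k => (O.obj.map g.op).hom (a j k), fun j => ?_, fun k => ?_⟩
  · simp only [h1, rs_sum, rs_smul]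
  · rw [← map_zero (O.obj.map g.op).hom, ← h2 k, map_sum]
    simp only [map_mul]

variable {F} in
/-- The stalk at a point of a flat module is flat. -/
theorem flat_stalk (hF : ModSite.IsFlat F) :
    Module.Flat (ModSite.stalkRing p O) (ModSite.stalkMod p F) := by
  refine Module.Flat.of_forall_isTrivialRelation fun {l f x} h => ?_
  rw [Groth.Agent.S9095.result] at hF
  obtain ⟨U, u⟩ : p.fiber.Elements := Classical.choice IsCofiltered.nonempty
  obtain ⟨X, y, -, f', s', -, hf, hs⟩ := exists_germs p F f x U u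
  have h0 : ModSite.germ p F X y (∑ j, f' j • s' j) = ModSite.germ p F X y 0 := by
    rw [germ_sum, germ_zero, ← h]
    refine Finset.sum_congr rfl fun j _ => ?_
    rw [ModSite.germ_smul, hf, hs]
  obtain ⟨Y, g, z, rfl, h1⟩ := (germ_eq_iff p F y _ _).1 h0
  rw [rs_zero, rs_sum] at h1
  simp only [rs_smul] at h1
  obtain ⟨S, hS, H⟩ := hF Y l _ _ h1
  obtain ⟨V, k, hk, v, rfl⟩ := p.jointly_surjective _ hS z
  obtain ⟨l', t, a, h2, h3⟩ := H k hk
  refine ⟨l', fun i j => ModSite.germRing (O := O) p V v (a i j), fun j => ModSite.germ p F V v (t j),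
    fun i => ?_, fun j => ?_⟩
  · rw [← hs i, ← germ_res, ← germ_res]
    have e := h2 i
    change rs F k (rs F g (s' i)) = _ at e
    rw [e, germ_sum]
    refine Finset.sum_congr rfl fun j _ => ?_
    rw [ModSite.germ_smul]
  · have e := congrArg (ModSite.germRing (O := O) p V v) (h3 j)
    rw [germR_sum, germR_zero] at e
    rw [← e]
    refine Finset.sum_congr rfl fun i _ => ?_
    rw [germR_mul, mul_comm, StalkRing.germ_res, StalkRing.germ_res, hf]

/-- A relation which is trivial in the stalk is trivial on a smaller neighbourhood. -/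
theorem exists_trivRel {U : C} (u : p.fiber.obj U) {n : ℕ} (f : Fin n → O.obj.obj (op U))
    (s : Fin n → ModSite.sect F U)
    (h : Module.IsTrivialRelation (R := ModSite.stalkRing p O) (M := ModSite.stalkAb p F)
      (fun j => ModSite.germRing p U u (f j)) (fun j => ModSite.germ p F U u (s j))) :
    ∃ (V : C) (g : V ⟶ U) (v : p.fiber.obj V), p.fiber.map g v = u ∧
      TrivRel F (fun j => (O.obj.map g.op).hom (f j)) (fun j => rs F g (s j)) := by
  obtain ⟨l, a, y, h1, h2⟩ := h
  beta_reduce at h1 h2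
  obtain ⟨X, x, g, r, t, rfl, hr, ht⟩ := exists_germs p F (ι := Fin n × Fin l) (κ := Fin l)
    (fun i => a i.1 i.2) y U u
  obtain ⟨Y, k, y, rfl, h3, h4⟩ := eq_of_germs p F x
    (fun k : Fin l => ∑ j, r (j, k) * (O.obj.map g.op).hom (f j)) (fun _ => 0)
    (fun j : Fin n => rs F g (s j)) (fun j => ∑ k, r (j, k) • t k)
    (fun k => by
      rw [germR_sum, germR_zero, ← h2 k]
      refine Finset.sum_congr rfl fun j _ => ?_
      rw [germR_mul, mul_comm, StalkRing.germ_res, hr])
    (fun j => by
      rw [germ_res, germ_sum, h1 j]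
      refine Finset.sum_congr rfl fun k _ => ?_
      rw [ModSite.germ_smul, hr, ht])
  refine ⟨Y, k ≫ g, y, by simp, l, fun q => rs F k (t q), fun j q => (O.obj.map k.op).hom (r (j, q)),
    fun j => ?_, fun q => ?_⟩
  · beta_reduce
    rw [rs_comp, h4 j, rs_sum]
    simp only [rs_smul]
  · beta_reduce
    have e := h3 q
    rw [map_zero, map_sum] at e
    rw [← e]
    refine Finset.sum_congr rfl fun j _ => ?_
    rw [map_mul, op_comp, Functor.map_comp, CommRingCat.hom_comp, RingHom.comp_apply]

/-- Flatness can be checked on the stalks at a conservative family of points. -/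
theorem isFlat_of_stalks (P : ObjectProperty (GrothendieckTopology.Point.{u} J))
    (hP : P.IsConservativeFamilyOfPoints) (h : ∀ p : GrothendieckTopology.Point.{u} J, P p →
      Module.Flat (ModSite.stalkRing p O) (ModSite.stalkMod p F)) : ModSite.IsFlat F := by
  rw [Groth.Agent.S9095.result]
  intro U n f s hs
  let ι : Type u := Σ V : C, { g : V ⟶ U //
    TrivRel F (fun j => (O.obj.map g.op).hom (f j)) (fun j => rs F g (s j)) }
  refine ⟨Sieve.ofArrows (fun i : ι => i.1) (fun i => i.2.1), ?_, ?_⟩
  · rw [hP.jointly_reflect_ofArrows_mem]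
    intro Φ x
    have := h Φ.obj Φ.property
    have h0 : ∑ j, ModSite.germRing (O := O) Φ.obj U x (f j) • ModSite.germ Φ.obj F U x (s j) = 0 := by
      have := congrArg (ModSite.germ Φ.obj F U x) hs
      rw [germ_sum, germ_zero] at this
      rw [← this]
      refine Finset.sum_congr rfl fun j _ => ?_
      rw [ModSite.germ_smul]
    obtain ⟨V, g, v, hv, H⟩ := exists_trivRel Φ.obj F x f s
      (Module.Flat.isTrivialRelation_of_sum_smul_eq_zero (R := ModSite.stalkRing Φ.obj O)
        (M := ModSite.stalkMod Φ.obj F) h0)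
    exact ⟨⟨V, g, H⟩, v, hv⟩
  · rintro V _ ⟨W, k, _, ⟨⟨Y, g, hg⟩⟩, rfl⟩
    obtain ⟨l, t, a, h1, h2⟩ := hg.res F k
    refine ⟨l, t, a, fun j => ?_, fun q => ?_⟩
    · rw [← h1 j]
      exact rs_comp F g k (s j)
    · rw [← h2 q]
      refine Finset.sum_congr rfl fun j _ => ?_
      rw [op_comp, Functor.map_comp, CommRingCat.hom_comp, RingHom.comp_apply]

end K295.Stalks
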