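import Groth.Agent.ModSite.K295.FlatCrit
import Groth.Agent.ModSite.K296.FreeOn
import Groth.Agent.ModSite.K296.Qc

/-!
# Colimits of modules on a ringed site, elementwise; sections of direct sums

* `wo_desc`: for a colimit cocone `c` of modules, the map from the colimit of the underlying presheaves
  of modules is locally bijective;
* `exists_img`: a section of a colimit is locally a finite sum of sections coming from the terms;
* `exists_sum`: over a quasi-compact object, a section of a direct sum is a finite sum of sections of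
  the terms;
* `preservesColimitsOfShape_sect`, `preservesColimitsOfShape_hom_freeOn`.
-/

set_option autoImplicit false

universe u

open CategoryTheory CategoryTheory.Limits Opposite

namespace K295.Coprod

open Groth.Agent Groth.Agent.Dcoh K291.Mon K291.Colim K295.FlatCrit K296.FreeOn

/-- In abelian groups, a colimit is generated by the images of the structure maps. -/
theorem closure_eq_top {K : Type u} [SmallCategory K] {D : K ⥤ AddCommGrpCat.{u}} (c : Cocone D)
    (hc : IsColimit c) :
    AddSubgroup.closure {a : c.pt | ∃ (j : K) (b : D.obj j), (c.ι.app j).hom b = a} = ⊤ := by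
  set H := AddSubgroup.closure {a : c.pt | ∃ (j : K) (b : D.obj j), (c.ι.app j).hom b = a} with hH
  let q : c.pt ⟶ AddCommGrpCat.of (c.pt ⧸ H) := AddCommGrpCat.ofHom (QuotientAddGroup.mk' H)
  have h0 : q = 0 := hc.hom_ext fun j => by
    ext b
    rw [comp_zero]
    change QuotientAddGroup.mk' H ((c.ι.app j).hom b) = 0
    rw [QuotientAddGroup.mk'_apply, QuotientAddGroup.eq_zero_iff]
    exact AddSubgroup.subset_closure ⟨j, b, rfl⟩
  rw [eq_top_iff]
  intro a _
  have h1 : q.hom a = 0 := by rw [h0]; rfl
  exact (QuotientAddGroup.eq_zero_iff a).1 h1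

variable {C : Type u} [SmallCategory C] {J : GrothendieckTopology C} {O : Sheaf J CommRingCat.{u}}

section Colim

variable {I : Type u} [SmallCategory I] {D : I ⥤ ModSite.Mod O} (c : Cocone D)

/-- The comparison map from the colimit in presheaves of modules. -/
noncomputable def desc : colimit (D ⋙ toP O) ⟶ (toP O).obj c.pt :=
  colimit.desc _ ((toP O).mapCocone c)

variable {c}

/-- The comparison map becomes an isomorphism after sheafification. -/
theorem wo_desc (hc : IsColimit c) : WO O (desc c) := by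
  rw [WO_iff]
  have p1 : PreservesColimitsOfSize.{u, u} (shP O) := (shAdj O).leftAdjoint_preservesColimits
  have p2 : PreservesColimitsOfSize.{u, u} (toP O ⋙ shP O) :=
    preservesColimits_of_natIso (asIso (shAdj O).counit).symm
  have h1 : IsColimit ((shP O).mapCocone (colimit.cocone (D ⋙ toP O))) :=
    isColimitOfPreserves (shP O) (colimit.isColimit _)
  have h2 : IsColimit ((toP O ⋙ shP O).mapCocone c) := isColimitOfPreserves (toP O ⋙ shP O) hc
  let h2' : IsColimit ((shP O).mapCocone ((toP O).mapCocone c)) := h2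
  have e : (shP O).map (desc c) = (h1.coconePointUniqueUpToIso h2').hom := by
    refine h1.hom_ext fun i => ?_
    rw [IsColimit.comp_coconePointUniqueUpToIso_hom]
    have : colimit.ι (D ⋙ toP O) i ≫ desc c = (toP O).map (c.ι.app i) := colimit.ι_desc _ _
    have h3 := congrArg (shP O).map this
    rw [Functor.map_comp] at h3
    exact h3
  rw [e]
  infer_instance

theorem ls_desc (hc : IsColimit c) : LS (desc c) := WO_LS _ (wo_desc hc)
theorem li_desc (hc : IsColimit c) : LI (desc c) := WO_LI _ (wo_desc hc)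

variable (c) in
/-- The subgroup of sections over `U` generated by the images of the terms of the diagram. -/
def img (U : C) : AddSubgroup (ModSite.sect c.pt U) :=
  AddSubgroup.closure {a | ∃ (j : I) (b : ModSite.sect (D.obj j) U), ap (c.ι.app j) U b = a}

/-- A section of a colimit is locally in the subgroup generated by the terms. -/
theorem exists_img (hc : IsColimit c) {U : C} (t : ModSite.sect c.pt U) :
    ∃ S ∈ J U, ∀ ⦃V : C⦄ (g : V ⟶ U), S g → rs c.pt g t ∈ img c V := by
  obtain ⟨S, hS, H⟩ := (LS_iff (desc c)).1 (ls_desc hc) U t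
  refine ⟨S, hS, fun V g hg => ?_⟩
  obtain ⟨y, hy⟩ := H g hg
  have e : rs c.pt g t = MonW.sec (desc c) (op V) y := hy.symm
  rw [e]
  clear e hy
  let Γ : PM O ⥤ AddCommGrpCat.{u} := PresheafOfModules.toPresheaf _ ⋙ (evaluation _ _).obj (op V)
  have hΓ : PreservesColimitsOfShape I Γ := inferInstance
  have h1 := closure_eq_top _ (isColimitOfPreserves Γ (colimit.isColimit (D ⋙ toP O)))
  let φ : (Γ.mapCocone (colimit.cocone (D ⋙ toP O))).pt →+ ModSite.sect c.pt V := (Γ.map (desc c)).hom
  have h3 : AddSubgroup.closure {a : (Γ.mapCocone (colimit.cocone (D ⋙ toP O))).pt |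
      ∃ (j : I) (b : ((D ⋙ toP O) ⋙ Γ).obj j),
        ((Γ.mapCocone (colimit.cocone (D ⋙ toP O))).ι.app j).hom b = a} ≤ (img c V).comap φ := by
    rw [AddSubgroup.closure_le]
    rintro _ ⟨j, b, rfl⟩
    refine AddSubgroup.subset_closure ⟨j, b, ?_⟩
    have : colimit.ι (D ⋙ toP O) j ≫ desc c = (toP O).map (c.ι.app j) := colimit.ι_desc _ _
    have h3 := congrArg Γ.map this
    rw [Functor.map_comp] at h3
    exact (ConcreteCategory.congr_hom h3 b).symm
  rw [h1] at h3
  exact h3 (show (y : (Γ.mapCocone (colimit.cocone (D ⋙ toP O))).pt) ∈ _ from trivial)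

end Colim

section Sum

variable {ι : Type u} {F : Discrete ι ⥤ ModSite.Mod O} {c : Cocone F} (hc : IsColimit c)

open Classical in
/-- The projection to a term of a direct sum. -/
noncomputable def π (i : Discrete ι) : c.pt ⟶ F.obj i :=
  hc.desc { pt := F.obj i
            ι := Discrete.natTrans (fun j => if h : j = i then eqToHom (by rw [h]; rfl) else 0) }

theorem ι_π_self (i : Discrete ι) : c.ι.app i ≫ π hc i = 𝟙 _ := by
  refine (hc.fac _ i).trans ?_
  exact dif_pos rfl

theorem ι_π_ne {i j : Discrete ι} (h : i ≠ j) : c.ι.app i ≫ π hc j = 0 := by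
  refine (hc.fac _ i).trans ?_
  exact dif_neg h

theorem ap_π_self {V : C} (i : Discrete ι) (x : ModSite.sect (F.obj i) V) :
    ap (π hc i) V (ap (c.ι.app i) V x) = x := by
  rw [← ap_comp, ι_π_self, ap_id]

theorem ap_π_ne {V : C} {i j : Discrete ι} (h : i ≠ j) (x : ModSite.sect (F.obj i) V) :
    ap (π hc j) V (ap (c.ι.app i) V x) = 0 := by
  rw [← ap_comp, ι_π_ne hc h, ap_zero']

/-- `t` is the sum of its components in `S`. -/
def P (U : C) (S : Finset (Discrete ι)) (t : ModSite.sect c.pt U) : Prop :=
  t = ∑ i ∈ S, ap (c.ι.app i) U (ap (π hc i) U t)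

variable {hc}

theorem P.mono {U : C} {S S' : Finset (Discrete ι)} {t : ModSite.sect c.pt U} (h : P hc U S t)
    (hS : S ⊆ S') : P hc U S' t := by
  have h0 : ∀ j ∉ S, ap (π hc j) U t = 0 := by
    intro j hj
    rw [h, map_sum]
    refine Finset.sum_eq_zero fun i hi => ?_
    exact ap_π_ne hc (by rintro rfl; exact hj hi) _
  unfold P at h ⊢
  refine h.trans (Finset.sum_subset hS fun i _ hi => ?_)
  rw [h0 i hi, map_zero]

theorem P.rs {U V : C} (g : V ⟶ U) {S : Finset (Discrete ι)} {t : ModSite.sect c.pt U}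
    (ht : P hc U S t) : P hc V S (rs c.pt g t) := by
  unfold P at ht ⊢
  conv_lhs => rw [ht]
  rw [map_sum]
  refine Finset.sum_congr rfl fun i _ => ?_
  rw [ap_rs, ap_rs]
  rfl

open Classical in
theorem P.of_img {U : C} (t : ModSite.sect c.pt U) (ht : t ∈ img c U) : ∃ S, P hc U S t := by
  induction ht using AddSubgroup.closure_induction with
  | mem a ha =>
    obtain ⟨i, b, rfl⟩ := ha
    refine ⟨{i}, ?_⟩
    unfold P
    rw [Finset.sum_singleton, ap_π_self]
  | zero => exact ⟨∅, rfl⟩
  | add a b _ _ iha ihb =>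
    obtain ⟨S, hS⟩ := iha
    obtain ⟨S', hS'⟩ := ihb
    refine ⟨S ∪ S', ?_⟩
    have h1 : P hc U (S ∪ S') a := hS.mono Finset.subset_union_left
    have h2 : P hc U (S ∪ S') b := hS'.mono Finset.subset_union_right
    unfold P at h1 h2 ⊢
    simp only [map_add, Finset.sum_add_distrib]
    exact congrArg₂ (· + ·) h1 h2
  | neg a _ iha =>
    obtain ⟨S, hS⟩ := iha
    refine ⟨S, ?_⟩
    unfold P at hS ⊢
    simp only [map_neg, Finset.sum_neg_distrib]
    exact congrArg Neg.neg hS

variable (hc)

/-- Over a quasi-compact object a section of a direct sum is the sum of finitely many components. -/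
theorem exists_P {W : C} (hW : CohCx.IsQcObject ((presheafToSheaf J (Type u)).obj (yoneda.obj W)))
    (t : ModSite.sect c.pt W) : ∃ S, P hc W S t := by
  classical
  obtain ⟨T, hT, H⟩ := exists_img hc t
  obtain ⟨κ, _, Yk, gk, -, hg, hY⟩ := K296.Qc.exists_finite_cover hW Set.univ
    (fun X => ⟨PUnit, fun _ => X, fun _ => 𝟙 X, by
      refine J.superset_covering ?_ (J.top_mem X)
      intro V f _
      exact ⟨X, f, 𝟙 X, ⟨PUnit.unit⟩, by simp⟩, fun _ => trivial⟩) T hT
  have := Fintype.ofFinite κ
  choose S hS using fun k => P.of_img (hc := hc) _ (H (gk k) (hg k))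
  refine ⟨Finset.univ.biUnion S, ?_⟩
  refine eq_of_locally _ _ _ hY ?_
  intro V f' hf'
  obtain ⟨_, f, _, ⟨k⟩, rfl⟩ := hf'
  have h1 : P hc (Yk k) (Finset.univ.biUnion S) (K296.FreeOn.rs c.pt (gk k) t) :=
    (hS k).mono (Finset.subset_biUnion_of_mem S (Finset.mem_univ k))
  have h2 := h1.rs f
  unfold P at h2
  rw [← rs_rs, h2, map_sum]
  refine Finset.sum_congr rfl fun i _ => ?_
  rw [← rs_rs (c.pt) (gk k) f, ap_rs, ap_rs, ap_rs, ap_rs]
  rfl

end Sum

section Ab

open Classical in
/-- A criterion for a cocone of abelian groups to be a direct sum. -/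
theorem nonempty_isColimit_ab {ι : Type u} {G : Discrete ι ⥤ AddCommGrpCat.{u}} (c : Cocone G)
    (p : ∀ i, c.pt →+ G.obj i) (h1 : ∀ i (x : G.obj i), p i ((c.ι.app i).hom x) = x)
    (h2 : ∀ i j (x : G.obj i), i ≠ j → p j ((c.ι.app i).hom x) = 0)
    (h3 : ∀ t : c.pt, ∃ S : Finset (Discrete ι), t = ∑ i ∈ S, (c.ι.app i).hom (p i t)) :
    Nonempty (IsColimit c) := by
  have h0 : ∀ (t : c.pt) (S : Finset (Discrete ι)), t = ∑ i ∈ S, (c.ι.app i).hom (p i t) →
      ∀ j ∉ S, p j t = 0 := by
    intro t S hS j hj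
    rw [hS, map_sum]
    refine Finset.sum_eq_zero fun i hi => h2 i j _ (by rintro rfl; exact hj hi)
  let q : ∀ (s : Cocone G) (t : c.pt) (_ : Discrete ι), s.pt := fun s t i => (s.ι.app i).hom (p i t)
  have hsup : ∀ (s : Cocone G) (t : c.pt) (S : Finset (Discrete ι)),
      t = ∑ i ∈ S, (c.ι.app i).hom (p i t) → Function.support (q s t) ⊆ (S : Set (Discrete ι)) := by
    intro s t S hS i hi
    by_contra hiS
    refine hi ?_
    change (s.ι.app i).hom (p i t) = 0
    rw [h0 t S hS i hiS, map_zero]
  have hfin : ∀ (s : Cocone G) (t : c.pt), (Function.support (q s t)).Finite := by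
    intro s t
    obtain ⟨S, hS⟩ := h3 t
    exact S.finite_toSet.subset (hsup s t S hS)
  let desc : ∀ s : Cocone G, c.pt →+ s.pt := fun s => AddMonoidHom.mk'
    (fun t => ∑ᶠ i, q s t i) (fun a b => by
      have : q s (a + b) = fun i => q s a i + q s b i := by
        funext i
        change (s.ι.app i).hom (p i (a + b)) = _
        rw [map_add, map_add]
      rw [this]
      exact finsum_add_distrib (hfin s a) (hfin s b))
  have fac : ∀ (s : Cocone G) (j : Discrete ι) (x : G.obj j),
      desc s ((c.ι.app j).hom x) = (s.ι.app j).hom x := by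
    intro s j x
    change ∑ᶠ i, q s ((c.ι.app j).hom x) i = _
    rw [finsum_eq_single _ j]
    · change (s.ι.app j).hom (p j ((c.ι.app j).hom x)) = _
      rw [h1]
    · intro i hi
      change (s.ι.app i).hom (p i ((c.ι.app j).hom x)) = 0
      rw [h2 j i x hi.symm, map_zero]
  refine ⟨{ desc := fun s => AddCommGrpCat.ofHom (desc s), fac := fun s j => ?_, uniq := fun s m hm => ?_ }⟩
  · ext x
    exact fac s j x
  · ext t
    obtain ⟨S, hS⟩ := h3 t
    change m.hom t = ∑ᶠ i, q s t i
    rw [finsum_eq_sum_of_support_subset _ (hsup s t S hS)]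
    conv_lhs => rw [hS]
    rw [map_sum]
    refine Finset.sum_congr rfl fun i _ => ?_
    exact ConcreteCategory.congr_hom (hm i) (p i t)

end Ab

/-- Sections over a quasi-compact object commute with direct sums. -/
theorem preservesColimitsOfShape_sect (O : Sheaf J CommRingCat.{u}) (W : C)
    (hW : CohCx.IsQcObject ((presheafToSheaf J (Type u)).obj (yoneda.obj W))) (ι : Type u) :
    PreservesColimitsOfShape (Discrete ι)
      (SheafOfModules.toSheaf (ModSite.ringSh O) ⋙ (sheafSections J AddCommGrpCat.{u}).obj (op W)) where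
  preservesColimit {F} := ⟨fun {c} hc => nonempty_isColimit_ab _ (fun i => ap (π hc i) W)
    (fun i x => ap_π_self hc i x) (fun i j x h => ap_π_ne hc h x) (fun t => exists_P hc hW t)⟩

/-- Homomorphisms out of the free module on a quasi-compact object commute with direct sums. -/
theorem preservesColimitsOfShape_hom (O : Sheaf J CommRingCat.{u}) (U : C)
    (hU : CohCx.IsQcObject ((presheafToSheaf J (Type u)).obj (yoneda.obj U))) (ι : Type u) :
    PreservesColimitsOfShape (Discrete ι) (preadditiveCoyoneda.obj (op (ModSite.freeOn O U))) where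
  preservesColimit {F} := ⟨fun {c} hc => nonempty_isColimit_ab
    ((preadditiveCoyoneda.obj (op (ModSite.freeOn O U))).mapCocone c)
    (fun i => ((preadditiveCoyoneda.obj (op (ModSite.freeOn O U))).map (π hc i)).hom)
    (fun i (x : ModSite.freeOn O U ⟶ F.obj i) => by
      change (x ≫ c.ι.app i) ≫ π hc i = x
      rw [Category.assoc, ι_π_self, Category.comp_id])
    (fun i j (x : ModSite.freeOn O U ⟶ F.obj i) h => by
      change (x ≫ c.ι.app i) ≫ π hc j = 0
      rw [Category.assoc, ι_π_ne hc h, comp_zero])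
    (fun (t : ModSite.freeOn O U ⟶ c.pt) => by
      obtain ⟨S, hS⟩ := exists_P hc hU (ap t U (gen O U))
      refine ⟨S, ?_⟩
      change t = ∑ i ∈ S, (t ≫ π hc i) ≫ c.ι.app i
      apply hom_ext_gen
      have e : ap (∑ i ∈ S, (t ≫ π hc i) ≫ c.ι.app i) U (gen O U) =
          ∑ i ∈ S, ap ((t ≫ π hc i) ≫ c.ι.app i) U (gen O U) := by
        have := map_sum (homEquiv U c.pt) (fun i => (t ≫ π hc i) ≫ c.ι.app i) S
        exact this
      rw [e]
      exact hS)⟩

end K295.Coprod
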