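import Groth.Agent.FibSite.K780.MorSite
import Groth.Prelude.Def_ModSite2
import Mathlib.CategoryTheory.Sites.DenseSubsite.InducedTopology
import Mathlib.CategoryTheory.Comma.Basic

/-!
# The comma site of a covering flat functor

For a functor `fn : D ⥤ C` covering flat for a topology `J` on `C`, the category `CE fn` of triples
`(U, V, c : U ⟶ fn V)` with the topology induced by the projection `cp fn : CE fn ⥤ C` is a dense
subsite of `(C, J)`.  The inverse image of a sheaf `G` on `D` restricts on `CE fn` to the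
sheaf associated to `(U, V, c) ↦ G(V)`.
-/

set_option autoImplicit false

universe w w' u

open CategoryTheory CategoryTheory.Limits Opposite K780.CovFlat

namespace K295.CommaSite

variable {C D : Type u} [SmallCategory C] [SmallCategory D]

/-- The category of triples `(U, V, c : U ⟶ fn V)`. -/
abbrev CE (fn : D ⥤ C) := Comma (𝟭 C) fn
/-- The projection to `C`. -/
abbrev cp (fn : D ⥤ C) : CE fn ⥤ C := Comma.fst (𝟭 C) fn
/-- The projection to `D`. -/
abbrev cq (fn : D ⥤ C) : CE fn ⥤ D := Comma.snd (𝟭 C) fn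

variable (fn : D ⥤ C)

/-- An object of the comma category. -/
abbrev ob {U : C} {V : D} (c : U ⟶ fn.obj V) : CE fn where
  left := U
  right := V
  hom := c

variable {fn}

/-- The object `(fn V, V, 𝟙)`. -/
abbrev ob1 (V : D) : CE fn := ob fn (𝟙 (fn.obj V))

/-- A morphism of the comma category. -/
abbrev mr {U U' : C} {V V' : D} {c : U ⟶ fn.obj V} {c' : U' ⟶ fn.obj V'} (h : U' ⟶ U) (g : V' ⟶ V)
    (w : h ≫ c = c' ≫ fn.map g) : ob fn c' ⟶ ob fn c where
  left := h
  right := g
  w := w

variable (J : GrothendieckTopology C) [hF : Fact (IsCF fn J)]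

instance : (cp fn).IsCoverDense J where
  is_cover U := by
    obtain ⟨S, hS, h⟩ := hF.out.term U
    refine J.superset_covering ?_ hS
    intro U' f hf
    obtain ⟨V, ⟨c⟩⟩ := h f hf
    exact ⟨⟨ob fn c, 𝟙 _, f, by simp⟩⟩

instance : (cp fn).IsLocallyFull J where
  functorPushforward_imageSieve_mem {e e'} φ := by
    obtain ⟨S, hS, h⟩ := hF.out.prod e.left e.right e'.right e.hom (φ ≫ e'.hom)
    refine J.superset_covering ?_ hS
    intro U f hf
    obtain ⟨V, g₁, g₂, y, h₁, h₂⟩ := h f hf
    refine ⟨ob fn y, ⟨f, g₁, by simpa using h₁.symm⟩, 𝟙 _, ⟨⟨f ≫ φ, g₂, by simpa using h₂.symm⟩, rfl⟩, by simp⟩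

instance : (cp fn).IsLocallyFaithful J where
  functorPushforward_equalizer_mem {e e'} f₁ f₂ h12 := by
    have h12 : f₁.left = f₂.left := h12
    obtain ⟨S, hS, h⟩ := hF.out.eq e.left e.right e'.right f₁.right f₂.right e.hom (by
      have h1 := f₁.w
      have h2 := f₂.w
      simp only [Functor.id_map] at h1 h2
      rw [← h1, ← h2, h12])
    refine J.superset_covering ?_ hS
    intro U f hf
    obtain ⟨V, g, y, h₁, h₂⟩ := h f hf
    refine ⟨ob fn y, ⟨f, g, by simpa using h₂.symm⟩, 𝟙 _, ?_, by simp⟩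
    ext
    · simp [h12]
    · simpa using h₁

/-- The topology on the comma category. -/
abbrev CT : GrothendieckTopology (CE fn) := (cp fn).inducedTopology J

variable {J}

theorem mem_CT_iff {e : CE fn} {S : Sieve e} :
    S ∈ CT (fn := fn) J e ↔ S.functorPushforward (cp fn) ∈ J e.left :=
  (cp fn).mem_inducedTopology_iff_of_isCoverDense J S

/-- A sieve of the comma site covers if and only if locally it contains a morphism. -/
theorem mem_CT_iff_loc {U : C} {V : D} {c : U ⟶ fn.obj V} {S : Sieve (ob fn c)} :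
    S ∈ CT (fn := fn) J (ob fn c) ↔ Loc J U (fun U' h => ∃ (V' : D) (c' : U' ⟶ fn.obj V') (g : V' ⟶ V)
      (w : h ≫ c = c' ≫ fn.map g), S (mr h g w)) := by
  rw [mem_CT_iff]
  constructor
  · intro h
    refine ⟨_, h, ?_⟩
    rintro U' f ⟨e, k, m, hk, rfl⟩
    refine ⟨e.right, m ≫ e.hom, k.right, by simpa using congrArg (m ≫ ·) k.w, ?_⟩
    convert! S.downward_closed hk (⟨m, 𝟙 _, by simp⟩ : ob fn (m ≫ e.hom) ⟶ e)
    ext <;> simp
  · rintro ⟨T, hT, h⟩
    refine J.superset_covering ?_ hT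
    intro U' f hf
    obtain ⟨V', c', g, w, hS⟩ := h f hf
    exact ⟨ob fn c', mr f g w, 𝟙 _, hS, by simp⟩

section Hom

variable {A : Type w} [Category.{w'} A]

/-- A morphism `G ⟶ fn^* F` gives a morphism on the comma category. -/
@[simps]
def ext {G : Dᵒᵖ ⥤ A} {F : Cᵒᵖ ⥤ A} (φ : G ⟶ fn.op ⋙ F) : (cq fn).op ⋙ G ⟶ (cp fn).op ⋙ F where
  app e := φ.app (op e.unop.right) ≫ F.map e.unop.hom.op
  naturality e e' k := by
    have h1 : G.map k.unop.right.op ≫ φ.app _ = φ.app _ ≫ F.map (fn.map k.unop.right).op :=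
      φ.naturality k.unop.right.op
    have h2 : k.unop.left ≫ e.unop.hom = e'.unop.hom ≫ fn.map k.unop.right := k.unop.w
    change G.map k.unop.right.op ≫ φ.app _ ≫ F.map e'.unop.hom.op =
      (φ.app _ ≫ F.map e.unop.hom.op) ≫ F.map k.unop.left.op
    rw [reassoc_of% h1, Category.assoc, ← F.map_comp, ← F.map_comp, ← op_comp, ← op_comp, h2]

/-- Morphisms `G ⟶ fn^* F` are morphisms on the comma category. -/
@[simps]
def extEquiv (G : Dᵒᵖ ⥤ A) (F : Cᵒᵖ ⥤ A) :
    (G ⟶ fn.op ⋙ F) ≃ ((cq fn).op ⋙ G ⟶ (cp fn).op ⋙ F) where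
  toFun φ := ext φ
  invFun ψ :=
    { app := fun V => ψ.app (op (ob1 V.unop))
      naturality := fun V V' g => ψ.naturality (X := op (ob1 V.unop)) (Y := op (ob1 V'.unop))
          (Quiver.Hom.op (mr (fn.map g.unop) g.unop (by simp))) }
  left_inv φ := by
    ext V
    simp
  right_inv ψ := by
    ext e
    have h := ψ.naturality (X := op (ob1 e.unop.right)) (Y := e)
      (Quiver.Hom.op (⟨e.unop.hom, 𝟙 _, by simp⟩ : e.unop ⟶ ob1 e.unop.right))
    have h2 : G.map (𝟙 (op e.unop.right)) ≫ ψ.app e = ψ.app (op (ob1 e.unop.right)) ≫ F.map e.unop.hom.op := h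
    rw [G.map_id] at h2
    exact h2.symm.trans (Category.id_comp _)

theorem ext_comp {G : Dᵒᵖ ⥤ A} {F F' : Cᵒᵖ ⥤ A} (φ : G ⟶ fn.op ⋙ F) (ψ : F ⟶ F') :
    ext (φ ≫ Functor.whiskerLeft fn.op ψ) = ext φ ≫ Functor.whiskerLeft (cp fn).op ψ := by
  ext e
  simp

end Hom

section Pull

variable {A : Type w} [Category.{w'} A] [∀ X, HasLimitsOfShape (StructuredArrow X (cp fn).op) A]
  {K : GrothendieckTopology D} [fn.IsContinuous K J]
  [(fn.sheafPushforwardContinuous A K J).IsRightAdjoint]

variable (J) in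
/-- The comparison map from the inverse image presheaf on the comma category to the restriction of the
inverse image sheaf. -/
noncomputable def cmp (G : Sheaf K A) :
    (cq fn).op ⋙ G.obj ⟶ (cp fn).op ⋙ ((fn.sheafPullback A K J).obj G).obj :=
  ext ((fn.sheafAdjunctionContinuous A K J).unit.app G).hom

omit [∀ X, HasLimitsOfShape (StructuredArrow X (cp fn).op) A] in
theorem cmp_bijective (G : Sheaf K A) (Z : Sheaf J A) : Function.Bijective
    (fun ψ : (cp fn).op ⋙ ((fn.sheafPullback A K J).obj G).obj ⟶ (cp fn).op ⋙ Z.obj => cmp J G ≫ ψ) := by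
  have h1 : Function.Bijective (fun (φ : ((fn.sheafPullback A K J).obj G).obj ⟶ Z.obj) =>
      Functor.whiskerLeft (cp fn).op φ) :=
    Functor.whiskerLeft_obj_map_bijective_of_isCoverDense (K := J) (cp fn) _ _ Z.property
  rw [← Function.Bijective.of_comp_iff _ h1, ← Function.Bijective.of_comp_iff _ (Sheaf.homEquiv (X := (fn.sheafPullback A K J).obj G) (Y := Z)).bijective]
  have e : ((fun ψ : (cp fn).op ⋙ ((fn.sheafPullback A K J).obj G).obj ⟶ (cp fn).op ⋙ Z.obj => cmp J G ≫ ψ) ∘
      (fun (φ : ((fn.sheafPullback A K J).obj G).obj ⟶ Z.obj) => Functor.whiskerLeft (cp fn).op φ)) ∘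
      (Sheaf.homEquiv (X := (fn.sheafPullback A K J).obj G) (Y := Z)) = fun φ => extEquiv G.obj Z.obj
        (((fn.sheafAdjunctionContinuous A K J).homEquiv G Z φ).hom) := by
    funext φ
    rw [Adjunction.homEquiv_unit]
    exact (ext_comp _ _).symm
  rw [e]
  exact (extEquiv G.obj Z.obj).bijective.comp
    ((Sheaf.homEquiv (X := G) (Y := (fn.sheafPushforwardContinuous A K J).obj Z)).bijective.comp
      ((fn.sheafAdjunctionContinuous A K J).homEquiv G Z).bijective)

/-- The comparison map is a local isomorphism. -/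
theorem cmp_W (G : Sheaf K A) : (CT (fn := fn) J).W (cmp J G) := by
  intro Z hZ
  let E := Functor.IsDenseSubsite.sheafEquiv (CT (fn := fn) J) J (cp fn) A
  let Z' : Sheaf J A := E.functor.obj ⟨Z, hZ⟩
  let i : (cp fn).op ⋙ Z'.obj ≅ Z := (sheafToPresheaf _ _).mapIso (E.unitIso.app ⟨Z, hZ⟩).symm
  have h := cmp_bijective (J := J) (fn := fn) G Z'
  have e : (fun ψ : (cp fn).op ⋙ ((fn.sheafPullback A K J).obj G).obj ⟶ Z => cmp J G ≫ ψ) =
      i.homToEquiv ∘ (fun ψ => cmp J G ≫ ψ) ∘ i.homToEquiv.symm := by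
    funext ψ
    simp
  rw [e]
  exact i.homToEquiv.bijective.comp (h.comp i.homToEquiv.symm.bijective)

section Conc

variable {FA : A → A → Type*} {CA : A → Type u} [∀ X Y, FunLike (FA X Y) (CA X) (CA Y)]
  [ConcreteCategory A FA] [(CT (fn := fn) J).WEqualsLocallyBijective A]

/-- Sections of the inverse image are locally inverse images of sections. -/
theorem loc_exists_at (G : Sheaf K A) {U : C} {V : D} (c : U ⟶ fn.obj V)
    (t : ToType (((fn.sheafPullback A K J).obj G).obj.obj (op U))) :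
    Loc J U (fun U' h => ∃ (V' : D) (c' : U' ⟶ fn.obj V') (g : V' ⟶ V) (_ : h ≫ c = c' ≫ fn.map g)
      (s : ToType (G.obj.obj (op V'))),
      ((fn.sheafPullback A K J).obj G).obj.map h.op t = (cmp J G).app (op (ob fn c')) s) := by
  have hs := (((CT (fn := fn) J).W_iff_isLocallyBijective _).1 (cmp_W (J := J) (fn := fn) G)).2
  have h := Presheaf.imageSieve_mem (CT (fn := fn) J) (cmp J G) (U := op (ob fn c)) t
  refine (mem_CT_iff_loc.1 h).mono ?_
  rintro U' h ⟨V', c', g, w, s, hs⟩
  exact ⟨V', c', g, w, s, hs.symm⟩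

theorem loc_exists (G : Sheaf K A) {U : C}
    (t : ToType (((fn.sheafPullback A K J).obj G).obj.obj (op U))) :
    Loc J U (fun U' h => ∃ (V : D) (c : U' ⟶ fn.obj V) (s : ToType (G.obj.obj (op V))),
      ((fn.sheafPullback A K J).obj G).obj.map h.op t = (cmp J G).app (op (ob fn c)) s) := by
  refine (hF.out.term U).bind ?_
  rintro U' h ⟨V, ⟨c⟩⟩
  refine (loc_exists_at G c (((fn.sheafPullback A K J).obj G).obj.map h.op t)).mono ?_
  rintro U'' h' ⟨V', c', g, w, s, hs⟩
  refine ⟨V', c', s, ?_⟩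
  rw [← hs, op_comp, Functor.map_comp, ConcreteCategory.comp_apply]

/-- Equality of inverse images of sections is detected locally. -/
theorem loc_eq (G : Sheaf K A) {U : C} {V : D} (c : U ⟶ fn.obj V) (s s' : ToType (G.obj.obj (op V)))
    (e : (cmp J G).app (op (ob fn c)) s = (cmp J G).app (op (ob fn c)) s') :
    Loc J U (fun U' h => ∃ (V' : D) (c' : U' ⟶ fn.obj V') (g : V' ⟶ V) (_ : h ≫ c = c' ≫ fn.map g),
      G.obj.map g.op s = G.obj.map g.op s') := by
  have hs := (((CT (fn := fn) J).W_iff_isLocallyBijective _).1 (cmp_W (J := J) (fn := fn) G)).1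
  have h := Presheaf.equalizerSieve_mem (CT (fn := fn) J) (cmp J G) (X := op (ob fn c)) s s' e
  refine (mem_CT_iff_loc.1 h).mono ?_
  rintro U' h ⟨V', c', g, w, hs⟩
  exact ⟨V', c', g, w, hs⟩

end Conc

end Pull

section Cover

variable {K : GrothendieckTopology D} [fn.IsContinuous K J]

omit hF in
/-- A continuous functor preserves covering sieves. -/
theorem coverPreserving : CoverPreserving K J fn where
  cover_preserve {V S} hS := by
    rw [← J.close_eq_top_iff_mem]
    let F : Sheaf J (Type u) := ⟨(Functor.closedSieves J).toFunctor,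
      (isSheaf_iff_isSheaf_of_type _ _).2 (classifier_isSheaf J)⟩
    have h := (fn.op_comp_isSheaf_of_types K J F).isSeparated S hS
    have hcl : J.IsClosed (⊤ : Sieve (fn.obj V)) := fun Y f _ => trivial
    have e : (⟨J.close (S.functorPushforward fn), J.close_isClosed _⟩ : (Functor.closedSieves J).toFunctor.obj (op (fn.obj V))) =
        ⟨(⊤ : Sieve (fn.obj V)), hcl⟩ := by
      refine h.ext ?_
      intro W g hg
      apply Subtype.ext
      change Sieve.pullback (fn.map g) (J.close (S.functorPushforward fn)) = Sieve.pullback (fn.map g) ⊤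
      rw [Sieve.pullback_top, ← Sieve.id_mem_iff_eq_top]
      change J.close (S.functorPushforward fn) (𝟙 _ ≫ fn.map g)
      rw [Category.id_comp]
      exact J.le_close _ _ (Sieve.image_mem_functorPushforward fn S hg)
    exact congrArg Subtype.val e

omit hF in
theorem loc_of_mem {U : C} {V : D} (c : U ⟶ fn.obj V) {S : Sieve V} (hS : S ∈ K V) :
    Loc J U (fun U' h => ∃ (V' : D) (c' : U' ⟶ fn.obj V') (g : V' ⟶ V) (_ : h ≫ c = c' ≫ fn.map g), S g) := by
  refine ⟨_, J.pullback_stable c (coverPreserving.cover_preserve hS), ?_⟩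
  rintro U' h ⟨V', g, c', hg, e⟩
  exact ⟨V', c', g, e, hg⟩

end Cover

end K295.CommaSite
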