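import Mathlib.Algebra.Category.ModuleCat.Sheaf.PushforwardContinuous
import Mathlib.Algebra.Category.ModuleCat.Sheaf.PullbackContinuous
import Mathlib.Algebra.Category.ModuleCat.Sheaf.Abelian
import Mathlib.Algebra.Category.Ring.Limits
import Mathlib.Algebra.Category.Ring.FilteredColimits
import Mathlib.Algebra.Category.Grp.FilteredColimits
import Mathlib.Algebra.Category.ModuleCat.FilteredColimits
import Mathlib.CategoryTheory.Sites.DenseSubsite.SheafEquiv
import Mathlib.CategoryTheory.Sites.DenseSubsite.InducedTopology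

/-!
# Sheaves of modules on a dense subsite

For a dense subsite `p : E ⥤ C` and a sheaf of rings `R` on `C`, restriction
`SheafOfModules R ⥤ SheafOfModules (R ∘ p)` is an equivalence.
-/

set_option autoImplicit false

universe u

open CategoryTheory CategoryTheory.Limits Opposite

namespace K295.DenseMod

section Res

variable {E C : Type u} [SmallCategory E] [SmallCategory C] (p : E ⥤ C)
  {J' : GrothendieckTopology E} {J : GrothendieckTopology C} [p.IsDenseSubsite J' J]

/-- The restriction of a sheaf of rings. -/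
abbrev RE (R : Sheaf J RingCat.{u}) : Sheaf J' RingCat.{u} :=
  (p.sheafPushforwardContinuous RingCat.{u} J' J).obj R

variable (J') in
/-- The restriction functor. -/
noncomputable abbrev res (R : Sheaf J RingCat.{u}) : SheafOfModules.{u} R ⥤ SheafOfModules.{u} (RE p (J' := J') R) :=
  SheafOfModules.pushforward (𝟙 _)

include J' in
/-- Sections of a sheaf are determined by their restrictions to the subsite. -/
theorem sec_ext {R : Sheaf J RingCat.{u}} (G : SheafOfModules.{u} R) {U : C} {s t : G.val.obj (op U)}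
    (h : ∀ (e : E) (f : p.obj e ⟶ U), G.val.map f.op s = G.val.map f.op t) : s = t := by
  have := Functor.IsDenseSubsite.isCoverDense J' J p
  exact Functor.IsCoverDense.ext (G := p) (K := J)
    ((sheafCompose J (forget AddCommGrpCat.{u})).obj ⟨G.val.presheaf, G.isSheaf⟩) U (fun e f => h e f)

variable {R : Sheaf J RingCat.{u}}

instance : (res p J' R).Faithful where
  map_injective {F G φ ψ} h := by
    ext U m
    refine sec_ext p (J' := J') G fun e f => ?_
    have h1 := PresheafOfModules.naturality_apply φ.val f.op m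
    have h2 := PresheafOfModules.naturality_apply ψ.val f.op m
    refine h1.symm.trans (Eq.trans ?_ h2)
    have h3 := congrArg (fun t => (SheafOfModules.Hom.val t).app (op e)) h
    exact ConcreteCategory.congr_hom h3 (F.val.map f.op m)

instance : (res p J' R).Full where
  map_surjective {F G} φ := by
    have := Functor.IsDenseSubsite.isCoverDense J' J p
    have := Functor.IsDenseSubsite.isLocallyFull J' J p
    obtain ⟨ψ, hψ⟩ := (Functor.whiskerLeft_obj_map_bijective_of_isCoverDense (K := J) p
      F.val.presheaf G.val.presheaf G.isSheaf).2 ((PresheafOfModules.toPresheaf _).map φ.val)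
    have key : ∀ (e : E) (m : F.val.obj (op (p.obj e))), ψ.app (op (p.obj e)) m = φ.val.app (op e) m := by
      intro e m
      have := congrArg (fun t => t.app (op e)) hψ
      exact ConcreteCategory.congr_hom this m
    refine ⟨⟨PresheafOfModules.homMk ψ ?_⟩, ?_⟩
    · intro X r m
      refine sec_ext p (J' := J') G fun e f => ?_
      have n1 : ∀ m' : F.val.obj X, G.val.map f.op (ψ.app X m') = φ.val.app (op e) (F.val.map f.op m') := by
        intro m'
        rw [← key]
        exact (ConcreteCategory.congr_hom (ψ.naturality f.op) m').symm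
      have h1 := n1 (r • m)
      rw [F.val.map_smul f.op r m] at h1
      refine h1.trans (Eq.trans ?_ (G.val.map_smul f.op r (ψ.app X m)).symm)
      refine Eq.trans ((φ.val.app (op e)).hom.map_smul (R.obj.map f.op r) (F.val.map f.op m)) ?_
      exact congrArg (fun t : G.val.obj (op (p.obj e)) => R.obj.map f.op r • t) (n1 m).symm
    · ext e m
      exact key e.unop m

end Res

section Coind

variable {E C : Type u} [SmallCategory E] [SmallCategory C] (p : E ⥤ C) {R : Cᵒᵖ ⥤ RingCat.{u}}
  (N : PresheafOfModules.{u} (p.op ⋙ R))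

/-- Compatible families of sections. -/
def fam (U : C) : AddSubgroup ((x : Σ e : E, (p.obj e ⟶ U)) → N.obj (op x.1)) where
  carrier := {n | ∀ (e e' : E) (k : e' ⟶ e) (h : p.obj e ⟶ U), N.map k.op (n ⟨e, h⟩) = n ⟨e', p.map k ≫ h⟩}
  zero_mem' e e' k h := (N.map k.op).hom.map_zero
  add_mem' {a b} ha hb e e' k h := by
    refine ((N.map k.op).hom.map_add _ _).trans ?_
    exact congrArg₂ (fun s t : N.obj (op e') => s + t) (ha e e' k h) (hb e e' k h)
  neg_mem' {a} ha e e' k h := by
    refine ((N.map k.op).hom.map_neg _).trans ?_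
    exact congrArg (fun s : N.obj (op e') => - s) (ha e e' k h)

variable {p N} in
theorem fam_ext {U : C} {n n' : fam p N U} (h : ∀ (e : E) (f : p.obj e ⟶ U), n.1 ⟨e, f⟩ = n'.1 ⟨e, f⟩) : n = n' := by
  apply Subtype.ext
  funext ⟨e, f⟩
  exact h e f

instance (U : C) : SMul (R.obj (op U)) (fam p N U) where
  smul r n := ⟨fun x => ((R.map x.2.op).hom r : (p.op ⋙ R).obj (op x.1)) • n.1 x, by
    intro e e' k h
    refine (N.map_smul k.op _ _).trans ?_
    have h1 := n.2 e e' k h
    refine congrArg₂ (fun (r : (p.op ⋙ R).obj (op e')) (s : N.obj (op e')) => r • s) ?_ h1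
    exact (ConcreteCategory.congr_hom (R.map_comp h.op (p.map k).op) r).symm⟩

theorem smul_val {U : C} (r : R.obj (op U)) (n : fam p N U) (e : E) (f : p.obj e ⟶ U) :
    (r • n).1 ⟨e, f⟩ = ((R.map f.op).hom r : (p.op ⋙ R).obj (op e)) • n.1 ⟨e, f⟩ := rfl

instance (U : C) : Module (R.obj (op U)) (fam p N U) where
  one_smul n := fam_ext fun e f => by
    rw [smul_val, map_one]
    exact one_smul _ _
  mul_smul r s n := fam_ext fun e f => by
    rw [smul_val, map_mul]
    exact mul_smul _ _ _
  smul_zero r := fam_ext fun e f => by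
    rw [smul_val]
    exact smul_zero _
  smul_add r n n' := fam_ext fun e f => by
    rw [smul_val]
    exact smul_add _ _ _
  add_smul r s n := fam_ext fun e f => by
    rw [smul_val, map_add]
    exact add_smul _ _ _
  zero_smul n := fam_ext fun e f => by
    rw [smul_val, map_zero]
    exact zero_smul _ _

/-- Restriction of compatible families. -/
noncomputable def famRes {U U' : C} (g : U' ⟶ U) : fam p N U →+ fam p N U' where
  toFun n := ⟨fun x => n.1 ⟨x.1, x.2 ≫ g⟩, fun e e' k h => by
    have := n.2 e e' k (h ≫ g)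
    rw [← Category.assoc] at this
    exact this⟩
  map_zero' := rfl
  map_add' _ _ := rfl

/-- The presheaf of compatible families. -/
noncomputable def famAb : Cᵒᵖ ⥤ Ab.{u} where
  obj U := AddCommGrpCat.of (fam p N U.unop)
  map g := AddCommGrpCat.ofHom (famRes p N g.unop)
  map_id U := by
    refine AddCommGrpCat.hom_ext (AddMonoidHom.ext fun (n : fam p N U.unop) => fam_ext fun e f => ?_)
    change n.1 ⟨e, f ≫ 𝟙 _⟩ = n.1 ⟨e, f⟩
    rw [Category.comp_id]
  map_comp {U U' U''} g g' := by
    refine AddCommGrpCat.hom_ext (AddMonoidHom.ext fun (n : fam p N U.unop) => fam_ext fun e f => ?_)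
    change n.1 ⟨e, f ≫ g'.unop ≫ g.unop⟩ = n.1 ⟨e, (f ≫ g'.unop) ≫ g.unop⟩
    rw [Category.assoc]

instance (U : Cᵒᵖ) : Module (R.obj U) ((famAb p N).obj U) :=
  inferInstanceAs (Module (R.obj (op U.unop)) (fam p N U.unop))

/-- The coinduced presheaf of modules. -/
noncomputable def coind : PresheafOfModules.{u} R :=
  PresheafOfModules.ofPresheaf (famAb p N) (by
    intro U U' g r n
    refine fam_ext fun e f => ?_
    change ((R.map (f ≫ g.unop).op).hom r : (p.op ⋙ R).obj (op e)) • n.1 ⟨e, f ≫ g.unop⟩ =
      ((R.map f.op).hom ((R.map g).hom r) : (p.op ⋙ R).obj (op e)) • n.1 ⟨e, f ≫ g.unop⟩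
    congr 1
    rw [op_comp, R.map_comp]
    rfl)

/-- The evaluation. -/
noncomputable def famEv : p.op ⋙ famAb p N ⟶ N.presheaf where
  app e := AddCommGrpCat.ofHom
    { toFun := fun (n : fam p N (p.obj e.unop)) => n.1 ⟨e.unop, 𝟙 _⟩
      map_zero' := rfl
      map_add' := fun _ _ => rfl }
  naturality e e' k := by
    ext n
    have := n.2 e.unop e'.unop k.unop (𝟙 _)
    change n.1 ⟨e'.unop, 𝟙 _ ≫ p.map k.unop⟩ = N.map k (n.1 ⟨e.unop, 𝟙 _⟩)
    rw [Category.id_comp]
    refine Eq.trans ?_ this.symm
    rw [Category.comp_id]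

/-- The universal property of the presheaf of compatible families. -/
noncomputable def famLift (G : Cᵒᵖ ⥤ Ab.{u}) (β : p.op ⋙ G ⟶ N.presheaf) : G ⟶ famAb p N where
  app U := AddCommGrpCat.ofHom
    { toFun := fun g => (⟨fun x => β.app (op x.1) (G.map x.2.op g), by
        intro e e' k h
        have h1 := ConcreteCategory.congr_hom (β.naturality k.op) (G.map h.op g)
        refine h1.symm.trans ?_
        change β.app (op e') (G.map (p.map k).op (G.map h.op g)) = β.app (op e') (G.map (p.map k ≫ h).op g)
        rw [op_comp, G.map_comp, ConcreteCategory.comp_apply]⟩ : fam p N U.unop)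
      map_zero' := fam_ext fun e f => by
        change β.app (op e) (G.map f.op 0) = 0
        rw [map_zero, map_zero]
      map_add' := fun g g' => fam_ext fun e f => by
        change β.app (op e) (G.map f.op (g + g')) = β.app (op e) (G.map f.op g) + β.app (op e) (G.map f.op g')
        rw [map_add, map_add] }
  naturality U U' h := by
    refine AddCommGrpCat.hom_ext (AddMonoidHom.ext fun g => fam_ext fun e f => ?_)
    change β.app (op e) (G.map f.op (G.map h g)) = β.app (op e) (G.map (f ≫ h.unop).op g)
    rw [op_comp, G.map_comp, ConcreteCategory.comp_apply]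
    rfl

instance : (famAb p N).IsRightKanExtension (famEv p N) where
  nonempty_isUniversal := ⟨IsTerminal.ofUniqueHom
    (fun X => CostructuredArrow.homMk (famLift p N X.left X.hom) (by
      ext e g
      change X.hom.app e (X.left.map (𝟙 (p.obj e.unop)).op g) = X.hom.app e g
      rw [op_id, X.left.map_id]
      rfl))
    (fun X m => by
      ext U g
      refine fam_ext fun e f => ?_
      have h1 := ConcreteCategory.congr_hom (congrArg (fun t => t.app (op e)) (CostructuredArrow.w m))
        (X.left.map f.op g)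
      have h2 := ConcreteCategory.congr_hom (m.left.naturality f.op) g
      change _ = X.hom.app (op e) (X.left.map f.op g)
      refine Eq.trans ?_ h1
      change _ = (m.left.app (op (p.obj e)) (X.left.map f.op g)).1 ⟨e, 𝟙 _⟩
      refine Eq.trans ?_ (congrArg (fun (t : fam p N (p.obj e)) => t.1 ⟨e, 𝟙 _⟩) h2).symm
      change (m.left.app U g).1 ⟨e, f⟩ = (m.left.app U g).1 ⟨e, 𝟙 _ ≫ f⟩
      rw [Category.id_comp])⟩

end Coind

section Sheaf

variable {E C : Type u} [SmallCategory E] [SmallCategory C] (p : E ⥤ C)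
  {J' : GrothendieckTopology E} {J : GrothendieckTopology C} [p.IsDenseSubsite J' J]
  {R : Sheaf J RingCat.{u}}

theorem isSheaf_of_isRan {G : Cᵒᵖ ⥤ Ab.{u}} {N : Eᵒᵖ ⥤ Ab.{u}} (hN : Presheaf.IsSheaf J' N) (α : p.op ⋙ G ⟶ N)
    [G.IsRightKanExtension α] : Presheaf.IsSheaf J G :=
  (Presheaf.isSheaf_of_iso_iff (Functor.rightKanExtensionUnique _ α _
    (p.op.ranCounit.app N))).2 (ran_isSheaf_of_isCocontinuous (G := p) (J := J') J ⟨N, hN⟩)

variable (J) in
include J in
theorem isIso_ranCounit {N : Eᵒᵖ ⥤ Ab.{u}} (hN : Presheaf.IsSheaf J' N) : IsIso (p.op.ranCounit.app N) := by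
  have h2 := (inferInstance : IsIso ((sheafToPresheaf _ _).map
    ((p.sheafAdjunctionCocontinuous Ab.{u} J' J).counit.app ⟨N, hN⟩)))
  have h3 := Functor.sheafAdjunctionCocontinuous_counit_app_hom (G := p) (A := Ab.{u}) (J := J') (K := J) ⟨N, hN⟩
  have h4 : (sheafToPresheaf _ _).map
    ((p.sheafAdjunctionCocontinuous Ab.{u} J' J).counit.app ⟨N, hN⟩) = p.op.ranCounit.app N := h3
  rw [h4] at h2
  exact h2

variable (J) in
include J in
theorem isIso_of_isRan {G : Cᵒᵖ ⥤ Ab.{u}} {N : Eᵒᵖ ⥤ Ab.{u}} (hN : Presheaf.IsSheaf J' N) (α : p.op ⋙ G ⟶ N)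
    [G.IsRightKanExtension α] : IsIso α := by
  have := isIso_ranCounit p J hN
  have e : α = Functor.whiskerLeft p.op (Functor.rightKanExtensionUnique _ α _ (p.op.ranCounit.app N)).hom ≫
      p.op.ranCounit.app N := by
    ext X : 2
    simp
  rw [e]
  infer_instance

/-- The underlying presheaf of modules. -/
abbrev uP (N : SheafOfModules.{u} (RE p (J' := J') R)) : PresheafOfModules.{u} (p.op ⋙ R.obj) := N.val

theorem isSheaf_uP (N : SheafOfModules.{u} (RE p (J' := J') R)) : Presheaf.IsSheaf J' (uP p N).presheaf := N.isSheaf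

/-- The coinduced sheaf of modules. -/
noncomputable def coindSh (N : SheafOfModules.{u} (RE p (J' := J') R)) : SheafOfModules.{u} R where
  val := coind p (uP p N)
  isSheaf := isSheaf_of_isRan (G := famAb p (uP p N)) p (isSheaf_uP p N) (famEv p (uP p N))

/-- The restriction of the coinduced sheaf. -/
noncomputable def resCoind (N : SheafOfModules.{u} (RE p (J' := J') R)) :
    (res p J' R).obj (coindSh p N) ⟶ N :=
  ⟨PresheafOfModules.homMk (M₁ := ((res p J' R).obj (coindSh p N)).val) (M₂ := N.val) (famEv p (uP p N)) (by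
    intro e r m
    have h : (R.obj.map (𝟙 (p.obj e.unop)).op).hom r = r := by
      rw [op_id, R.obj.map_id]
      rfl
    exact congrArg (fun (t : (p.op ⋙ R.obj).obj e) => t • (m : fam p (uP p N) (p.obj e.unop)).1 ⟨e.unop, 𝟙 _⟩) h)⟩

instance (N : SheafOfModules.{u} (RE p (J' := J') R)) : IsIso (resCoind p N) := by
  have h : IsIso ((SheafOfModules.forget _ ⋙ PresheafOfModules.toPresheaf _).map (resCoind p N)) :=
    isIso_of_isRan (G := famAb p (uP p N)) p J (isSheaf_uP p N) (famEv p (uP p N))
  exact isIso_of_reflects_iso (resCoind p N) (SheafOfModules.forget _ ⋙ PresheafOfModules.toPresheaf _)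

instance : (res p J' R).EssSurj where
  mem_essImage N := ⟨coindSh p N, ⟨asIso (resCoind p N)⟩⟩

instance : (res p J' R).IsEquivalence where

end Sheaf

end K295.DenseMod
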