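import Mathlib.Algebra.Category.ModuleCat.Presheaf
import Mathlib.Algebra.Category.Ring.Basic
import Mathlib.LinearAlgebra.TensorProduct.Tower

/-!
# Extension of scalars of presheaves of modules, explicitly

For a morphism `ρ : A ⟶ B` of presheaves of commutative rings and a presheaf of `A`-modules `M`,
`ext ρ M` is the presheaf of `B`-modules `X ↦ B(X) ⊗_{A(X)} M(X)`.
-/

set_option autoImplicit false

universe u

open CategoryTheory Opposite TensorProduct

namespace K295.ExtSc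

variable {E : Type u} [SmallCategory E] {A B : Eᵒᵖ ⥤ CommRingCat.{u}}

/-- The ring `B(X)` as an `A(X)`-algebra. -/
def Bm (_ : A ⟶ B) (X : Eᵒᵖ) : Type u := B.obj X

variable (ρ : A ⟶ B) (M : PresheafOfModules.{u} (A ⋙ forget₂ CommRingCat.{u} RingCat.{u}))

instance (X : Eᵒᵖ) : CommRing (Bm ρ X) := inferInstanceAs (CommRing (B.obj X))

/-- The structure map. -/
def st (X : Eᵒᵖ) : A.obj X →+* Bm ρ X := (ρ.app X).hom

instance (X : Eᵒᵖ) : Algebra (A.obj X) (Bm ρ X) := (st ρ X).toAlgebra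

instance (N : PresheafOfModules.{u} (B ⋙ forget₂ CommRingCat.{u} RingCat.{u})) (X : Eᵒᵖ) :
    Module (Bm ρ X) (N.obj X) := inferInstanceAs (Module (B.obj X) (N.obj X))

/-- Restriction on `B`. -/
def bres {X Y : Eᵒᵖ} (k : X ⟶ Y) : Bm ρ X →+* Bm ρ Y := (B.map k).hom

theorem smul_def {X : Eᵒᵖ} (a : A.obj X) (b : Bm ρ X) : a • b = st ρ X a * b :=
  Algebra.smul_def a b

theorem bres_st {X Y : Eᵒᵖ} (k : X ⟶ Y) (a : A.obj X) : bres ρ k (st ρ X a) = st ρ Y ((A.map k).hom a) :=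
  (ConcreteCategory.congr_hom (ρ.naturality k) a).symm

theorem bres_smul {X Y : Eᵒᵖ} (k : X ⟶ Y) (a : A.obj X) (b : Bm ρ X) :
    bres ρ k (a • b) = (A.map k).hom a • bres ρ k b := by
  rw [smul_def, smul_def, map_mul, bres_st]

/-- The tensor product `B(X) ⊗_{A(X)} M(X)`. -/
abbrev T (X : Eᵒᵖ) : Type u := TensorProduct (A.obj X) (Bm ρ X) (M.obj X)

/-- The restriction of a section. -/
noncomputable def mres {X Y : Eᵒᵖ} (k : X ⟶ Y) : M.obj X →+ M.obj Y := (M.presheaf.map k).hom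

theorem mres_smul {X Y : Eᵒᵖ} (k : X ⟶ Y) (a : A.obj X) (m : M.obj X) :
    mres M k (a • m) = (A.map k).hom a • mres M k m := M.map_smul k a m

/-- The restriction maps. -/
noncomputable def tres {X Y : Eᵒᵖ} (k : X ⟶ Y) : T ρ M X →+ T ρ M Y :=
  TensorProduct.liftAddHom
    { toFun := fun b =>
        { toFun := fun m => bres ρ k b ⊗ₜ mres M k m
          map_zero' := by rw [map_zero, tmul_zero]
          map_add' := fun m m' => by rw [map_add, tmul_add] }
      map_zero' := by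
        ext m
        change bres ρ k 0 ⊗ₜ[A.obj Y] mres M k m = 0
        rw [map_zero, zero_tmul]
      map_add' := fun b b' => by
        ext m
        change bres ρ k (b + b') ⊗ₜ[A.obj Y] mres M k m = bres ρ k b ⊗ₜ[A.obj Y] mres M k m + bres ρ k b' ⊗ₜ[A.obj Y] mres M k m
        rw [map_add, add_tmul] }
    (fun a b m => by
      change bres ρ k (a • b) ⊗ₜ[A.obj Y] mres M k m = bres ρ k b ⊗ₜ[A.obj Y] mres M k (a • m)
      rw [bres_smul, mres_smul, smul_tmul])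

theorem tres_tmul {X Y : Eᵒᵖ} (k : X ⟶ Y) (b : Bm ρ X) (m : M.obj X) :
    tres ρ M k (b ⊗ₜ m) = bres ρ k b ⊗ₜ mres M k m := rfl

theorem add_ext {X : Eᵒᵖ} {G : Type*} [AddCommGroup G] {φ ψ : T ρ M X →+ G}
    (h : ∀ (b : Bm ρ X) (m : M.obj X), φ (b ⊗ₜ m) = ψ (b ⊗ₜ m)) : φ = ψ := by
  ext t
  refine TensorProduct.induction_on t ?_ h ?_
  · rw [map_zero, map_zero]
  · intro x y hx hy
    rw [map_add, map_add, hx, hy]

theorem tres_smul {X Y : Eᵒᵖ} (k : X ⟶ Y) (b : Bm ρ X) (t : T ρ M X) :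
    tres ρ M k (b • t) = bres ρ k b • tres ρ M k t := by
  refine TensorProduct.induction_on t ?_ ?_ ?_
  · rw [smul_zero, map_zero, smul_zero]
  · intro b' m
    rw [TensorProduct.smul_tmul', tres_tmul, tres_tmul, TensorProduct.smul_tmul', smul_eq_mul, smul_eq_mul, map_mul]
  · intro x y hx hy
    rw [smul_add, map_add, map_add, hx, hy, smul_add]

/-- The underlying presheaf of abelian groups. -/
noncomputable def extAb : Eᵒᵖ ⥤ Ab.{u} where
  obj X := AddCommGrpCat.of (T ρ M X)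
  map k := AddCommGrpCat.ofHom (tres ρ M k)
  map_id X := by
    refine AddCommGrpCat.hom_ext (add_ext ρ M fun b m => ?_)
    change bres ρ (𝟙 X) b ⊗ₜ[A.obj X] mres M (𝟙 X) m = b ⊗ₜ m
    congr 1
    · exact ConcreteCategory.congr_hom (B.map_id X) b
    · exact ConcreteCategory.congr_hom (M.presheaf.map_id X) m
  map_comp {X Y Z} k l := by
    refine AddCommGrpCat.hom_ext (add_ext ρ M fun b m => ?_)
    change bres ρ (k ≫ l) b ⊗ₜ[A.obj Z] mres M (k ≫ l) m = bres ρ l (bres ρ k b) ⊗ₜ[A.obj Z] mres M l (mres M k m)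
    congr 1
    · exact ConcreteCategory.congr_hom (B.map_comp k l) b
    · exact ConcreteCategory.congr_hom (M.presheaf.map_comp k l) m

instance (X : Eᵒᵖ) : Module ((B ⋙ forget₂ CommRingCat.{u} RingCat.{u}).obj X) ((extAb ρ M).obj X) :=
  inferInstanceAs (Module (Bm ρ X) (T ρ M X))

/-- Extension of scalars of a presheaf of modules. -/
noncomputable def extP : PresheafOfModules.{u} (B ⋙ forget₂ CommRingCat.{u} RingCat.{u}) :=
  PresheafOfModules.ofPresheaf (extAb ρ M) (fun _ _ k b t => tres_smul ρ M k b t)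

variable {M} in
/-- Cast. -/
def toBm {X : Eᵒᵖ} (b : B.obj X) : Bm ρ X := b

/-- The pure tensors as sections. -/
def tm {X : Eᵒᵖ} (b : B.obj X) (m : M.obj X) : (extP ρ M).obj X := toBm ρ b ⊗ₜ[A.obj X] m

theorem tm_add {X : Eᵒᵖ} (b : B.obj X) (m m' : M.obj X) : tm ρ M b (m + m') = tm ρ M b m + tm ρ M b m' :=
  tmul_add (toBm ρ b) m m'

theorem tm_add_left {X : Eᵒᵖ} (b b' : B.obj X) (m : M.obj X) : tm ρ M (b + b') m = tm ρ M b m + tm ρ M b' m :=
  add_tmul (toBm ρ b) (toBm ρ b') m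

theorem tm_zero {X : Eᵒᵖ} (b : B.obj X) : tm ρ M b (0 : M.obj X) = 0 :=
  tmul_zero _ (toBm ρ b)

theorem zero_tm {X : Eᵒᵖ} (m : M.obj X) : tm ρ M (0 : B.obj X) m = 0 :=
  zero_tmul (Bm ρ X) m

theorem tm_smul {X : Eᵒᵖ} (b : B.obj X) (a : A.obj X) (m : M.obj X) :
    tm ρ M b (a • m) = ((ρ.app X).hom a : B.obj X) • tm ρ M b m := by
  have h : toBm ρ b ⊗ₜ[A.obj X] (a • m) = (st ρ X a) • (toBm ρ b ⊗ₜ[A.obj X] m) := by
    rw [← smul_tmul, smul_def, TensorProduct.smul_tmul']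
    rfl
  exact h

theorem smul_tm {X : Eᵒᵖ} (b' b : B.obj X) (m : M.obj X) :
    b' • tm ρ M b m = tm ρ M (b' * b) m := by
  have h : toBm ρ b' • (toBm ρ b ⊗ₜ[A.obj X] m) = (toBm ρ b' * toBm ρ b) ⊗ₜ[A.obj X] m := by
    rw [TensorProduct.smul_tmul']
    rfl
  exact h

theorem tm_eq {X : Eᵒᵖ} (b : B.obj X) (m : M.obj X) : tm ρ M b m = b • tm ρ M 1 m := by
  rw [smul_tm, mul_one]

theorem map_tm {X Y : Eᵒᵖ} (k : X ⟶ Y) (b : B.obj X) (m : M.obj X) :
    mres (extP ρ M) k (tm ρ M b m) = tm ρ M ((B.map k).hom b) (mres M k m) := rfl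

theorem hom_ext {N : PresheafOfModules.{u} (B ⋙ forget₂ CommRingCat.{u} RingCat.{u})}
    {φ ψ : extP ρ M ⟶ N} (h : ∀ (X : Eᵒᵖ) (m : M.obj X), φ.app X (tm ρ M 1 m) = ψ.app X (tm ρ M 1 m)) : φ = ψ := by
  ext X t
  have h' : (φ.app X).hom.toAddMonoidHom = (ψ.app X).hom.toAddMonoidHom := by
    refine add_ext ρ M (G := N.obj X) fun b m => ?_
    have e1 := (φ.app X).hom.map_smul b (tm ρ M 1 m)
    have e2 := (ψ.app X).hom.map_smul b (tm ρ M 1 m)
    change (φ.app X).hom (tm ρ M b m) = (ψ.app X).hom (tm ρ M b m)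
    rw [tm_eq]
    refine e1.trans (Eq.trans ?_ e2.symm)
    exact congrArg (fun t : N.obj X => (b : B.obj X) • t) (h X m)
  exact DFunLike.congr_fun h' t

variable {M ρ}

/-- The additive map on sections. -/
noncomputable def descHom {N : PresheafOfModules.{u} (B ⋙ forget₂ CommRingCat.{u} RingCat.{u})}
    {X : Eᵒᵖ} (ψ : M.obj X →+ N.obj X) (h1 : ∀ (a : A.obj X) (m : M.obj X), ψ (a • m) = st ρ X a • ψ m) :
    T ρ M X →+ N.obj X :=
  TensorProduct.liftAddHom
    { toFun := fun (b : Bm ρ X) =>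
        { toFun := fun m => b • ψ m
          map_zero' := by rw [map_zero, smul_zero]
          map_add' := fun m m' => by rw [map_add, smul_add] }
      map_zero' := by
        ext m
        exact zero_smul (Bm ρ X) (ψ m)
      map_add' := fun b b' => by
        ext m
        exact add_smul b b' (ψ m) }
    (fun a b m => by
      change (a • b) • ψ m = b • ψ (a • m)
      rw [h1, smul_smul, smul_def, mul_comm])

theorem descHom_tmul {N : PresheafOfModules.{u} (B ⋙ forget₂ CommRingCat.{u} RingCat.{u})}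
    {X : Eᵒᵖ} (ψ : M.obj X →+ N.obj X) (h1 : ∀ (a : A.obj X) (m : M.obj X), ψ (a • m) = st ρ X a • ψ m)
    (b : Bm ρ X) (m : M.obj X) : descHom ψ h1 (b ⊗ₜ m) = b • ψ m := rfl

theorem descHom_smul {N : PresheafOfModules.{u} (B ⋙ forget₂ CommRingCat.{u} RingCat.{u})}
    {X : Eᵒᵖ} (ψ : M.obj X →+ N.obj X) (h1 : ∀ (a : A.obj X) (m : M.obj X), ψ (a • m) = st ρ X a • ψ m)
    (r : Bm ρ X) (t : T ρ M X) : descHom ψ h1 (r • t) = r • descHom ψ h1 t := by
  refine TensorProduct.induction_on t ?_ ?_ ?_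
  · rw [smul_zero, map_zero, smul_zero]
  · intro b' m
    rw [TensorProduct.smul_tmul', descHom_tmul, descHom_tmul, smul_eq_mul, mul_smul]
  · intro x y hx hy
    rw [smul_add, map_add, map_add, hx, hy, smul_add]

/-- Morphisms out of the extension of scalars. -/
noncomputable def desc {N : PresheafOfModules.{u} (B ⋙ forget₂ CommRingCat.{u} RingCat.{u})}
    (ψ : ∀ X : Eᵒᵖ, M.obj X →+ N.obj X)
    (h1 : ∀ (X : Eᵒᵖ) (a : A.obj X) (m : M.obj X), ψ X (a • m) = st ρ X a • ψ X m)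
    (h2 : ∀ (X Y : Eᵒᵖ) (k : X ⟶ Y) (m : M.obj X), ψ Y (mres M k m) = mres N k (ψ X m)) :
    extP ρ M ⟶ N :=
  PresheafOfModules.homMk (M₁ := extP ρ M) (M₂ := N)
    { app := fun X => AddCommGrpCat.ofHom (descHom (ψ X) (h1 X))
      naturality := fun X Y k => by
        refine AddCommGrpCat.hom_ext (add_ext ρ M fun b m => ?_)
        change bres ρ k b • ψ Y (mres M k m) = mres N k (b • ψ X m)
        rw [h2]
        exact (mres_smul N k b (ψ X m)).symm }
    (fun X r t => descHom_smul (ψ X) (h1 X) r t)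

theorem desc_tm {N : PresheafOfModules.{u} (B ⋙ forget₂ CommRingCat.{u} RingCat.{u})}
    (ψ : ∀ X : Eᵒᵖ, M.obj X →+ N.obj X)
    (h1 : ∀ (X : Eᵒᵖ) (a : A.obj X) (m : M.obj X), ψ X (a • m) = st ρ X a • ψ X m)
    (h2 : ∀ (X Y : Eᵒᵖ) (k : X ⟶ Y) (m : M.obj X), ψ Y (mres M k m) = mres N k (ψ X m))
    {X : Eᵒᵖ} (b : B.obj X) (m : M.obj X) :
    (desc ψ h1 h2).app X (tm ρ M b m) = b • ψ X m := rfl

end K295.ExtSc
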