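import Groth.Agent.ModSite.K295.CommaSite

/-!
# The inverse image of the structure sheaf, locally

For a morphism of ringed sites `f` the sections of `f⁻¹ O_D` are locally inverse images `iv f c s`,
`c : U ⟶ fn V`, `s ∈ O_D(V)`, and their equality is detected locally.
-/

set_option autoImplicit false

universe u

open CategoryTheory CategoryTheory.Limits Opposite K780.CovFlat K780.MorSite K295.CommaSite

namespace K295.InvRing

variable {C D : Type u} [SmallCategory C] [SmallCategory D] {J : GrothendieckTopology C}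
    {K : GrothendieckTopology D} {O_C : Sheaf J CommRingCat.{u}} {O_D : Sheaf K CommRingCat.{u}}
    (f : ModSite.RMor O_C O_D)

instance isCF : Fact (IsCF f.fn J) := ⟨isCF_of_preservesFiniteLimits f.exact⟩

/-- The inverse image of a section of the structure sheaf. -/
noncomputable def iv {U : C} {V : D} (c : U ⟶ f.fn.obj V) :
    O_D.obj.obj (op V) →+* f.invRing.obj.obj (op U) :=
  ((cmp J O_D).app (op (ob f.fn c))).hom

variable {f}

theorem iv_res {U U' : C} {V V' : D} (c : U ⟶ f.fn.obj V) (c' : U' ⟶ f.fn.obj V') (h : U' ⟶ U)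
    (g : V' ⟶ V) (w : h ≫ c = c' ≫ f.fn.map g) (s : O_D.obj.obj (op V)) :
    f.invRing.obj.map h.op (iv f c s) = iv f c' (O_D.obj.map g.op s) :=
  (ConcreteCategory.congr_hom ((cmp J O_D).naturality (Quiver.Hom.op (mr h g w))) s).symm

theorem exists_iv_at {U : C} {V : D} (c : U ⟶ f.fn.obj V) (t : f.invRing.obj.obj (op U)) :
    Loc J U (fun U' h => ∃ (V' : D) (c' : U' ⟶ f.fn.obj V') (g : V' ⟶ V) (_ : h ≫ c = c' ≫ f.fn.map g)
      (s : O_D.obj.obj (op V')), f.invRing.obj.map h.op t = iv f c' s) :=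
  loc_exists_at O_D c t

theorem exists_iv {U : C} (t : f.invRing.obj.obj (op U)) :
    Loc J U (fun U' h => ∃ (V : D) (c : U' ⟶ f.fn.obj V) (s : O_D.obj.obj (op V)),
      f.invRing.obj.map h.op t = iv f c s) :=
  loc_exists O_D t

theorem eq_iv {U : C} {V : D} (c : U ⟶ f.fn.obj V) (s s' : O_D.obj.obj (op V))
    (e : iv f c s = iv f c s') :
    Loc J U (fun U' h => ∃ (V' : D) (c' : U' ⟶ f.fn.obj V') (g : V' ⟶ V) (_ : h ≫ c = c' ≫ f.fn.map g),
      O_D.obj.map g.op s = O_D.obj.map g.op s') :=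
  loc_eq O_D c s s' e

end K295.InvRing
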