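import Groth.Agent.ModSite.K295.PullLoc

/-!
# Sections of the inverse image of a sheaf of modules, elementwise

* `exists_sum`: sections of `f^* M` are locally finite sums `∑ a i • pbc c (m i)`;
* `rel_left`, `rel_right`: relations `∑ a i • pbc c (m i) = 0` locally come from relations in `M` and
  in `O_C`.
-/

set_option autoImplicit false

universe u

open CategoryTheory CategoryTheory.Limits Opposite K780.CovFlat K780.MorSite K295.CommaSite K295.InvRing
  K291.FreeOn K291.PullFree K295.ExtSc K295.FlatCrit K295.PullLoc Groth.Agent.Dcoh TensorProduct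

namespace K295.PullSec

variable {C D : Type u} [SmallCategory C] [SmallCategory D] {J : GrothendieckTopology C}
    {K : GrothendieckTopology D} {O_C : Sheaf J CommRingCat.{u}} {O_D : Sheaf K CommRingCat.{u}}

/-- Restriction on the structure sheaf. -/
noncomputable abbrev orr (O : Sheaf J CommRingCat.{u}) {U V : C} (g : V ⟶ U) :
    O.obj.obj (op U) →+* O.obj.obj (op V) := (O.obj.map g.op).hom

theorem rs_smul' {O : Sheaf J CommRingCat.{u}} (F : ModSite.Mod O) {U V : C} (g : V ⟶ U)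
    (r : O.obj.obj (op U)) (s : ModSite.sect F U) : rs F g (r • s) = orr O g r • rs F g s :=
  F.val.map_smul g.op r s

theorem sc_smul' {O : Sheaf J CommRingCat.{u}} {F G : ModSite.Mod O} (φ : F ⟶ G) {U : C}
    (r : O.obj.obj (op U)) (s : ModSite.sect F U) : sc φ U (r • s) = r • sc φ U s :=
  (φ.val.app (op U)).hom.map_smul r s

theorem orr_comp (O : Sheaf J CommRingCat.{u}) {U V W : C} (g : V ⟶ U) (h : W ⟶ V) (r : O.obj.obj (op U)) :
    orr O h (orr O g r) = orr O (h ≫ g) r :=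
  (ConcreteCategory.congr_hom (O.obj.map_comp g.op h.op) r).symm

variable (f : ModSite.RMor O_C O_D)

/-- The ring map `O_D(V) ⟶ O_C(U)` for `c : U ⟶ fn V`. -/
noncomputable def rcc {U : C} {V : D} (c : U ⟶ f.fn.obj V) : O_D.obj.obj (op V) →+* O_C.obj.obj (op U) :=
  ((ρ f).app (op (ob f.fn c))).hom

theorem rcc_res {U U' : C} {V V' : D} (c : U ⟶ f.fn.obj V) (c' : U' ⟶ f.fn.obj V')
    (h : U' ⟶ U) (g : V' ⟶ V) (w : h ≫ c = c' ≫ f.fn.map g) (r : O_D.obj.obj (op V)) :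
    rcc f c' (orr O_D g r) = orr O_C h (rcc f c r) :=
  ConcreteCategory.congr_hom ((ρ f).naturality (Quiver.Hom.op (mr h g w))) r

variable {M : ModSite.Mod O_D}

theorem pbc_smul' {U : C} {V : D} (c : U ⟶ f.fn.obj V) (r : O_D.obj.obj (op V)) (m : ModSite.sect M V) :
    pbc f c (r • m) = rcc f c r • pbc f c m := pbc_smul f c r m

theorem κ_tm' {U : C} {V : D} (c : U ⟶ f.fn.obj V) (a : O_C.obj.obj (op U)) (m : ModSite.sect M V) :
    MonW.sec (κ f M) (op (ob f.fn c)) (tm (ρ f) (ME f M) a m) = a • pbc f c m := rfl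

/-- Sections of `f^* M` are locally sums of multiples of pulled back sections. -/
theorem exists_sum {U : C} {V : D} (c : U ⟶ f.fn.obj V) (x : ModSite.sect (f.pull.obj M) U) :
    Loc J U (fun U' h => ∃ (V' : D) (c' : U' ⟶ f.fn.obj V') (g : V' ⟶ V) (_ : h ≫ c = c' ≫ f.fn.map g)
      (n : ℕ) (a : Fin n → O_C.obj.obj (op U')) (m : Fin n → ModSite.sect M V'),
      rs _ h x = ∑ i, a i • pbc f c' (m i)) := by
  obtain ⟨S, hS, H⟩ := (LS_iff _).1 (WO_LS _ (κ_WO f M)) (ob f.fn c) x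
  refine (mem_CT_iff_loc.1 hS).mono ?_
  rintro U' h ⟨V', c', g, w, hS'⟩
  obtain ⟨t, ht⟩ := H _ hS'
  refine ⟨V', c', g, w, ?_⟩
  obtain ⟨s, hs⟩ := TensorProduct.exists_finset (R := ((cq f.fn).op ⋙ O_D.obj).obj (op (ob f.fn c')))
    (M := Bm (ρ f) (op (ob f.fn c'))) (N := (ME f M).obj (op (ob f.fn c'))) t
  refine ⟨s.card, fun i => (s.equivFin.symm i).1.1, fun i => (s.equivFin.symm i).1.2, ?_⟩
  have h1 : rs _ h x = MonW.sec (κ f M) (op (ob f.fn c')) t := ht.symm
  rw [h1]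
  have h2 : t = ∑ i : s, tm (ρ f) (ME f M) (i.1.1 : O_C.obj.obj (op U')) (i.1.2 : ModSite.sect M V') := by
    rw [hs]
    exact (Finset.sum_coe_sort s _).symm
  rw [h2, map_sum]
  rw [← s.equivFin.symm.sum_comp]
  rfl

theorem rs_sum' {O : Sheaf J CommRingCat.{u}} (F : ModSite.Mod O) {U V : C} (g : V ⟶ U) {n : ℕ}
    (a : Fin n → O.obj.obj (op U)) (s : Fin n → ModSite.sect F U) :
    rs F g (∑ i, a i • s i) = ∑ i, orr O g (a i) • rs F g (s i) := by
  rw [map_sum]
  exact Finset.sum_congr rfl fun i _ => rs_smul' F g _ _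

/-- Finitely many sections of `f^* M` are locally combinations of the same pulled back sections. -/
theorem exists_sums {U : C} {V : D} (c : U ⟶ f.fn.obj V) {k : ℕ} (x : Fin k → ModSite.sect (f.pull.obj M) U) :
    Loc J U (fun U' h => ∃ (V' : D) (c' : U' ⟶ f.fn.obj V') (g : V' ⟶ V) (_ : h ≫ c = c' ≫ f.fn.map g)
      (n : ℕ) (m : Fin n → ModSite.sect M V') (b : Fin k → Fin n → O_C.obj.obj (op U')),
      ∀ i, rs _ h (x i) = ∑ j, b i j • pbc f c' (m j)) := by
  induction k with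
  | zero => exact Loc.of_forall fun U' h => ⟨V, h ≫ c, 𝟙 _, by simp, 0, Fin.elim0, fun i => i.elim0, fun i => i.elim0⟩
  | succ k ih =>
    refine (ih (fun i => x i.succ)).bind ?_
    rintro U1 h1 ⟨V1, c1, g1, w1, n1, m1, b1, e1⟩
    refine (exists_sum f c1 (rs _ h1 (x 0))).mono ?_
    rintro U2 h2 ⟨V2, c2, g2, w2, n2, a2, m2, e2⟩
    refine ⟨V2, c2, g2 ≫ g1, ?_, n2 + n1, Fin.append m2 (fun j => rs M g2 (m1 j)),
      Fin.cons (Fin.append a2 0) (fun i => Fin.append 0 (fun j => orr O_C h2 (b1 i j))), ?_⟩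
    · rw [Category.assoc, w1, Functor.map_comp, reassoc_of% w2]
    · intro i
      refine Fin.cases ?_ (fun i => ?_) i
      · rw [Fin.sum_univ_add, ← rs_comp, e2]
        simp
      · rw [Fin.sum_univ_add, ← rs_comp, e1, rs_sum']
        simp only [Fin.cons_succ, Fin.append_left, Fin.append_right, Pi.zero_apply, zero_smul,
          Finset.sum_const_zero, zero_add]
        refine Finset.sum_congr rfl fun j _ => ?_
        rw [pbc_rs f c1 c2 h2 g2 w2]

/-- Relations in `f^* M` come locally from tensor relations. -/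
theorem tensor_zero {U : C} {V : D} (c : U ⟶ f.fn.obj V) {n : ℕ} (a : Fin n → O_C.obj.obj (op U))
    (m : Fin n → ModSite.sect M V) (h0 : ∑ i, a i • pbc f c (m i) = 0) :
    Loc J U (fun U' h => ∃ (V' : D) (c' : U' ⟶ f.fn.obj V') (g : V' ⟶ V) (_ : h ≫ c = c' ≫ f.fn.map g),
      ∑ i, tm (ρ f) (ME f M) (X := op (ob f.fn c')) (orr O_C h (a i)) (rs M g (m i)) = 0) := by
  let s : (QE f M).obj (op (ob f.fn c)) := ∑ i, tm (ρ f) (ME f M) (X := op (ob f.fn c)) (a i) (m i)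
  have hs : MonW.sec (κ f M) (op (ob f.fn c)) s = 0 := by
    rw [map_sum]
    exact h0
  obtain ⟨S, hS, H⟩ := (LI_iff _).1 (WO_LI _ (κ_WO f M)) (ob f.fn c) s hs
  refine (mem_CT_iff_loc.1 hS).mono ?_
  rintro U' h ⟨V', c', g, w, hS'⟩
  refine ⟨V', c', g, w, ?_⟩
  have h1 := H _ hS'
  rw [map_sum] at h1
  exact h1

/-- Relations in `f^* M` come locally from relations with the sections of `M` decomposed. -/
theorem rel_right {U : C} {V : D} (c : U ⟶ f.fn.obj V) {n : ℕ} (a : Fin n → O_C.obj.obj (op U))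
    (m : Fin n → ModSite.sect M V) (h0 : ∑ i, a i • pbc f c (m i) = 0) :
    Loc J U (fun U' h => ∃ (V' : D) (c' : U' ⟶ f.fn.obj V') (g : V' ⟶ V) (_ : h ≫ c = c' ≫ f.fn.map g)
      (l k : ℕ) (q : Fin l → O_C.obj.obj (op U')) (r : Fin n → Fin k → O_D.obj.obj (op V'))
      (r' : Fin l → Fin k → O_D.obj.obj (op V')) (y : Fin k → ModSite.sect M V'),
      (∀ i, rs M g (m i) = ∑ j, r i j • y j) ∧ (∀ i, 0 = ∑ j, r' i j • y j) ∧
      ∀ j, ∑ i, rcc f c' (r i j) * orr O_C h (a i) + ∑ i, rcc f c' (r' i j) * q i = 0) := by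
  refine (tensor_zero f c a m h0).mono ?_
  rintro U' h ⟨V', c', g, w, ht⟩
  refine ⟨V', c', g, w, ?_⟩
  obtain ⟨l, q, k, r, y, e1, e2⟩ := MonW.exists_vanishesTrivially (R := ((cq f.fn).op ⋙ O_D.obj).obj (op (ob f.fn c')))
    (M := Bm (ρ f) (op (ob f.fn c'))) (N := (ME f M).obj (op (ob f.fn c')))
    (fun i => toBm (ρ f) (X := op (ob f.fn c')) (orr O_C h (a i))) (fun i => rs M g (m i)) ht
  refine ⟨l, k, q, fun i j => r (Sum.inl i) j, fun i j => r (Sum.inr i) j, y, fun i => e1 (Sum.inl i),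
    fun i => e1 (Sum.inr i), fun j => ?_⟩
  have := e2 j
  rw [Fintype.sum_sum_type] at this
  exact this

/-- Relations in `f^* M` come locally from relations with the coefficients decomposed. -/
theorem rel_left {U : C} {V : D} (c : U ⟶ f.fn.obj V) {n : ℕ} (a : Fin n → O_C.obj.obj (op U))
    (m : Fin n → ModSite.sect M V) (h0 : ∑ i, a i • pbc f c (m i) = 0) :
    Loc J U (fun U' h => ∃ (V' : D) (c' : U' ⟶ f.fn.obj V') (g : V' ⟶ V) (_ : h ≫ c = c' ≫ f.fn.map g)
      (l k : ℕ) (q : Fin l → ModSite.sect M V') (r : Fin n → Fin k → O_D.obj.obj (op V'))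
      (r' : Fin l → Fin k → O_D.obj.obj (op V')) (β : Fin k → O_C.obj.obj (op U')),
      (∀ i, orr O_C h (a i) = ∑ j, rcc f c' (r i j) * β j) ∧ (∀ i, 0 = ∑ j, rcc f c' (r' i j) * β j) ∧
      ∀ j, ∑ i, r i j • rs M g (m i) + ∑ i, r' i j • q i = 0) := by
  refine (tensor_zero f c a m h0).mono ?_
  rintro U' h ⟨V', c', g, w, ht⟩
  refine ⟨V', c', g, w, ?_⟩
  let m' : Fin n → (ME f M).obj (op (ob f.fn c')) := fun i => rs M g (m i)
  let a' : Fin n → Bm (ρ f) (op (ob f.fn c')) := fun i => toBm (ρ f) (X := op (ob f.fn c')) (orr O_C h (a i))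
  have ht0 : ∑ i, a' i ⊗ₜ[((cq f.fn).op ⋙ O_D.obj).obj (op (ob f.fn c'))] m' i = 0 := ht
  have ht' := congrArg (TensorProduct.comm (((cq f.fn).op ⋙ O_D.obj).obj (op (ob f.fn c')))
    (Bm (ρ f) (op (ob f.fn c'))) ((ME f M).obj (op (ob f.fn c')))) ht0
  rw [map_sum, map_zero] at ht'
  obtain ⟨l, q, k, r, y, e1, e2⟩ := MonW.exists_vanishesTrivially (R := ((cq f.fn).op ⋙ O_D.obj).obj (op (ob f.fn c')))
    (N := Bm (ρ f) (op (ob f.fn c'))) (M := (ME f M).obj (op (ob f.fn c')))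
    (fun i => rs M g (m i)) (fun i => toBm (ρ f) (X := op (ob f.fn c')) (orr O_C h (a i))) ht'
  refine ⟨l, k, q, fun i j => r (Sum.inl i) j, fun i j => r (Sum.inr i) j, y, fun i => e1 (Sum.inl i),
    fun i => e1 (Sum.inr i), fun j => ?_⟩
  have := e2 j
  rw [Fintype.sum_sum_type] at this
  exact this

end K295.PullSec
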