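import Groth.Agent.ModSite.K295.InvRing
import Groth.Agent.ModSite.K295.PullSec

/-!
# The inverse image of the structure sheaf, locally: finite families and the map to `O_C`
-/

set_option autoImplicit false

universe u

open CategoryTheory CategoryTheory.Limits Opposite K780.CovFlat K780.MorSite K295.CommaSite K295.InvRing
  K295.PullSec K295.PullLoc

namespace K295.InvRing2

variable {C D : Type u} [SmallCategory C] [SmallCategory D] {J : GrothendieckTopology C}
    {K : GrothendieckTopology D} {O_C : Sheaf J CommRingCat.{u}} {O_D : Sheaf K CommRingCat.{u}}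
    (f : ModSite.RMor O_C O_D)

theorem iv_res' {U U' : C} {V V' : D} (c : U ⟶ f.fn.obj V) (c' : U' ⟶ f.fn.obj V') (h : U' ⟶ U)
    (g : V' ⟶ V) (w : h ≫ c = c' ≫ f.fn.map g) (s : O_D.obj.obj (op V)) :
    orr f.invRing h (iv f c s) = iv f c' (orr O_D g s) := iv_res c c' h g w s

theorem exists_ivs_fin {U : C} {V : D} (c : U ⟶ f.fn.obj V) {k : ℕ} (t : Fin k → f.invRing.obj.obj (op U)) :
    Loc J U (fun U' h => ∃ (V' : D) (c' : U' ⟶ f.fn.obj V') (g : V' ⟶ V) (_ : h ≫ c = c' ≫ f.fn.map g)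
      (s : Fin k → O_D.obj.obj (op V')), ∀ i, orr f.invRing h (t i) = iv f c' (s i)) := by
  induction k with
  | zero => exact Loc.of_forall fun U' h => ⟨V, h ≫ c, 𝟙 _, by simp, fun i => i.elim0, fun i => i.elim0⟩
  | succ k ih =>
    refine (ih (fun i => t i.succ)).bind ?_
    rintro U1 h1 ⟨V1, c1, g1, w1, s1, e1⟩
    refine (exists_iv_at c1 (orr f.invRing h1 (t 0))).mono ?_
    rintro U2 h2 ⟨V2, c2, g2, w2, s2, e2⟩
    refine ⟨V2, c2, g2 ≫ g1, ?_, Fin.cons s2 (fun i => orr O_D g2 (s1 i)), ?_⟩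
    · rw [Category.assoc, w1, Functor.map_comp, reassoc_of% w2]
    · intro i
      refine Fin.cases ?_ (fun i => ?_) i
      · rw [← orr_comp]
        exact e2
      · rw [← orr_comp, e1]
        exact iv_res' f c1 c2 h2 g2 w2 _

theorem exists_ivs {U : C} {V : D} (c : U ⟶ f.fn.obj V) {ι : Type*} [Finite ι] (t : ι → f.invRing.obj.obj (op U)) :
    Loc J U (fun U' h => ∃ (V' : D) (c' : U' ⟶ f.fn.obj V') (g : V' ⟶ V) (_ : h ≫ c = c' ≫ f.fn.map g)
      (s : ι → O_D.obj.obj (op V')), ∀ i, orr f.invRing h (t i) = iv f c' (s i)) := by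
  obtain ⟨k, ⟨e⟩⟩ := Finite.exists_equiv_fin ι
  refine (exists_ivs_fin f c (fun i => t (e.symm i))).mono ?_
  rintro U' h ⟨V', c', g, w, s, hs⟩
  refine ⟨V', c', g, w, fun i => s (e i), fun i => ?_⟩
  rw [← hs, e.symm_apply_apply]

theorem eq_ivs_fin {U : C} {V : D} (c : U ⟶ f.fn.obj V) {k : ℕ} (s : Fin k → O_D.obj.obj (op V))
    (hs : ∀ i, iv f c (s i) = 0) :
    Loc J U (fun U' h => ∃ (V' : D) (c' : U' ⟶ f.fn.obj V') (g : V' ⟶ V) (_ : h ≫ c = c' ≫ f.fn.map g),
      ∀ i, orr O_D g (s i) = 0) := by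
  induction k with
  | zero => exact Loc.of_forall fun U' h => ⟨V, h ≫ c, 𝟙 _, by simp, fun i => i.elim0⟩
  | succ k ih =>
    refine (ih (fun i => s i.succ) (fun i => hs _)).bind ?_
    rintro U1 h1 ⟨V1, c1, g1, w1, e1⟩
    have h0 : iv f c1 (orr O_D g1 (s 0)) = iv f c1 0 := by
      rw [← iv_res' f c c1 h1 g1 w1, hs, map_zero, map_zero]
    refine (eq_iv c1 (orr O_D g1 (s 0)) 0 h0).mono ?_
    rintro U2 h2 ⟨V2, c2, g2, w2, e2⟩
    refine ⟨V2, c2, g2 ≫ g1, ?_, ?_⟩
    · rw [Category.assoc, w1, Functor.map_comp, reassoc_of% w2]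
    · intro i
      refine Fin.cases ?_ (fun i => ?_) i
      · rw [← orr_comp]
        exact e2.trans (map_zero _)
      · rw [← orr_comp, e1, map_zero]

theorem eq_ivs {U : C} {V : D} (c : U ⟶ f.fn.obj V) {ι : Type*} [Finite ι] (s : ι → O_D.obj.obj (op V))
    (hs : ∀ i, iv f c (s i) = 0) :
    Loc J U (fun U' h => ∃ (V' : D) (c' : U' ⟶ f.fn.obj V') (g : V' ⟶ V) (_ : h ≫ c = c' ≫ f.fn.map g),
      ∀ i, orr O_D g (s i) = 0) := by
  obtain ⟨k, ⟨e⟩⟩ := Finite.exists_equiv_fin ι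
  refine (eq_ivs_fin f c (fun i => s (e.symm i)) (fun i => hs _)).mono ?_
  rintro U' h ⟨V', c', g, w, hs⟩
  refine ⟨V', c', g, w, fun i => ?_⟩
  rw [← hs (e i), e.symm_apply_apply]

/-- The map `f⁻¹ O_D ⟶ O_C` on inverse images of sections. -/
theorem invSharp_iv {U : C} {V : D} (c : U ⟶ f.fn.obj V) (s : O_D.obj.obj (op V)) :
    (f.invSharp.hom.app (op U)).hom (iv f c s) = rcc f c s := by
  have h1 : (f.fn.sheafAdjunctionContinuous CommRingCat.{u} K J).unit.app O_D ≫
      (f.fn.sheafPushforwardContinuous CommRingCat.{u} K J).map f.invSharp = f.sharp := by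
    exact ((f.fn.sheafAdjunctionContinuous CommRingCat.{u} K J).homEquiv_unit O_D O_C f.invSharp).symm.trans
      (Equiv.apply_symm_apply _ _)
  have h2 := ext_comp (fn := f.fn) ((f.fn.sheafAdjunctionContinuous CommRingCat.{u} K J).unit.app O_D).hom f.invSharp.hom
  have h3 : CommaSite.ext (fn := f.fn) (((f.fn.sheafAdjunctionContinuous CommRingCat.{u} K J).unit.app O_D).hom ≫
      Functor.whiskerLeft f.fn.op f.invSharp.hom) = ρ f := by
    have := congrArg (fun t => CommaSite.ext (fn := f.fn) (F := O_C.obj) (G := O_D.obj) t.hom) h1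
    exact this
  exact (ConcreteCategory.congr_hom (congrArg (fun t => t.app (op (ob f.fn c))) (h3.symm.trans h2)) s).symm

end K295.InvRing2
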