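import Mathlib.CategoryTheory.Sites.Sheaf
import Mathlib.Algebra.Category.Ring.Basic
import Mathlib.RingTheory.Ideal.Span
import Mathlib.Algebra.BigOperators.Group.Finset.Basic
import Mathlib.RingTheory.Ideal.Basic
import Mathlib.Tactic

/-!
# Locally ringed sites: elementary equivalences
-/

set_option autoImplicit false

universe w v u

open CategoryTheory Opposite

namespace K295.LocRing

variable {C : Type u} [Category.{v} C] (J : GrothendieckTopology C) (O : Cᵒᵖ ⥤ CommRingCat.{w})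

/-- For each section `f`, locally `f` or `1 - f` is a unit. -/
def Dich : Prop := ∀ (U : C) (f : O.obj (op U)), ∃ S ∈ J U, ∀ ⦃V : C⦄ (g : V ⟶ U), S g →
  IsUnit ((O.map g.op).hom f) ∨ IsUnit ((O.map g.op).hom (1 - f))

variable {J O}

theorem Dich.finset (h : Dich J O) {ι : Type*} (s : Finset ι) (hs : s.Nonempty) (U : C)
    (f : ι → O.obj (op U)) (hf : IsUnit (∑ i ∈ s, f i)) :
    ∃ S ∈ J U, ∀ ⦃V : C⦄ (g : V ⟶ U), S g → ∃ i ∈ s, IsUnit ((O.map g.op).hom (f i)) := by
  classical
  induction hs using Finset.Nonempty.cons_induction generalizing U with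
  | singleton a =>
    refine ⟨⊤, J.top_mem U, fun V g _ => ⟨a, by simp, ?_⟩⟩
    rw [Finset.sum_singleton] at hf
    exact hf.map _
  | cons a s ha hs ih =>
    rw [Finset.sum_cons] at hf
    obtain ⟨u, hu⟩ := hf
    let x : O.obj (op U) := (↑u⁻¹ : O.obj (op U)) * f a
    have h1x : 1 - x = (↑u⁻¹ : O.obj (op U)) * ∑ i ∈ s, f i := by
      have : (↑u⁻¹ : O.obj (op U)) * (f a + ∑ i ∈ s, f i) = 1 := by rw [← hu]; simp
      rw [mul_add] at this
      simp only [x]
      rw [← this]
      ring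
    obtain ⟨S, hS, H⟩ := h U x
    have key : ∀ ⦃V : C⦄ (g : V ⟶ U), S g → ∃ T ∈ J V, ∀ ⦃W : C⦄ (k : W ⟶ V), T k →
        ∃ i ∈ Finset.cons a s ha, IsUnit ((O.map (k ≫ g).op).hom (f i)) := by
      intro V g hg
      rcases H g hg with h1 | h1
      · refine ⟨⊤, J.top_mem V, fun W k _ => ⟨a, by simp, ?_⟩⟩
        rw [map_mul] at h1
        have h2 := (isUnit_of_mul_isUnit_right h1).map (O.map k.op).hom
        rw [op_comp, Functor.map_comp, CommRingCat.hom_comp, RingHom.comp_apply]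
        exact h2
      · rw [h1x, map_mul] at h1
        have h2 := isUnit_of_mul_isUnit_right h1
        rw [map_sum] at h2
        obtain ⟨T, hT, HT⟩ := ih V _ h2
        refine ⟨T, hT, fun W k hk => ?_⟩
        obtain ⟨i, hi, h3⟩ := HT k hk
        refine ⟨i, Finset.mem_cons_of_mem hi, ?_⟩
        rw [op_comp, Functor.map_comp, CommRingCat.hom_comp, RingHom.comp_apply]
        exact h3
    choose T hT HT using key
    refine ⟨Sieve.bind S.arrows fun V i hi => T i hi, J.bind_covering hS fun V i hi => hT i hi, ?_⟩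
    rintro W _ ⟨V, j, i, hi', hj, rfl⟩
    exact HT i hi' j hj

theorem dich_iff : Dich J O ↔ ∀ (U : C) (n : ℕ) (f : Fin n → O.obj (op U)), 1 ≤ n →
    Ideal.span (Set.range f) = ⊤ → ∃ S ∈ J U, ∀ ⦃V : C⦄ (g : V ⟶ U), S g →
      ∃ i, IsUnit ((O.map g.op).hom (f i)) := by
  constructor
  · intro h U n f hn hf
    have h1 : (1 : O.obj (op U)) ∈ Ideal.span (Set.range f) := by rw [hf]; trivial
    rw [Ideal.mem_span_range_iff_exists_fun] at h1
    obtain ⟨c, hc⟩ := h1
    have : Nonempty (Fin n) := ⟨⟨0, hn⟩⟩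
    obtain ⟨S, hS, H⟩ := h.finset Finset.univ Finset.univ_nonempty U (fun i => c i * f i)
      (by rw [hc]; exact isUnit_one)
    refine ⟨S, hS, fun V g hg => ?_⟩
    obtain ⟨i, -, hi⟩ := H g hg
    rw [map_mul] at hi
    exact ⟨i, isUnit_of_mul_isUnit_right hi⟩
  · intro h U f
    obtain ⟨S, hS, H⟩ := h U 2 ![f, 1 - f] (by norm_num) (by
      rw [Ideal.eq_top_iff_one]
      have h1 : f ∈ Ideal.span (Set.range ![f, 1 - f]) := Ideal.subset_span ⟨0, rfl⟩
      have h2 : 1 - f ∈ Ideal.span (Set.range ![f, 1 - f]) := Ideal.subset_span ⟨1, rfl⟩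
      have := Ideal.add_mem _ h1 h2
      simpa using this)
    refine ⟨S, hS, fun V g hg => ?_⟩
    obtain ⟨i, hi⟩ := H g hg
    fin_cases i
    · exact Or.inl hi
    · exact Or.inr hi

end K295.LocRing
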