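import Groth.Agent.ModSite.K295.Stalks
import Groth.Agent.Gaga.H976.TM0

/-!
# Exactness of the stalk functor at a point of a ringed site
-/

set_option autoImplicit false

universe u

open CategoryTheory CategoryTheory.Limits Opposite

namespace K295.StalkExact

open K295.Stalks Groth.Agent.Gaga.H976

variable {C : Type u} [SmallCategory C] {J : GrothendieckTopology C}
  (p : GrothendieckTopology.Point.{u} J) {O : Sheaf J CommRingCat.{u}} {F G H : ModSite.Mod O}

/-- The map on sections. -/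
noncomputable abbrev sm (φ : F ⟶ G) (X : C) : ModSite.sect F X →ₗ[O.obj.obj (op X)] ModSite.sect G X :=
  (φ.val.app (op X)).hom

theorem sm_rs (φ : F ⟶ G) {X Y : C} (g : Y ⟶ X) (s : ModSite.sect F X) :
    sm φ Y (rs F g s) = rs G g (sm φ X s) :=
  PresheafOfModules.naturality_apply φ.val g.op s

theorem stalkMap_germ (φ : F ⟶ G) (X : C) (x : p.fiber.obj X) (s : ModSite.sect F X) :
    (ModSite.stalkMap p φ).hom (ModSite.germ p F X x s) = ModSite.germ p G X x (sm φ X s) :=
  p.toPresheafFiber_naturality_apply ((SheafOfModules.toSheaf (ModSite.ringSh O)).map φ).hom X x s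

theorem injective_of_mono (φ : F ⟶ G) [Mono φ] : Function.Injective (ModSite.stalkMap p φ).hom := by
  rw [injective_iff_map_eq_zero]
  intro a ha
  obtain ⟨X, x, s, rfl⟩ := exists_germ p F a
  rw [stalkMap_germ, ← germ_zero p G x, germ_eq_iff] at ha
  obtain ⟨Y, g, y, rfl, h⟩ := ha
  rw [← sm_rs, rs_zero] at h
  have h1 : rs F g s = 0 := (TM0.mono_iff φ).1 inferInstance (op Y) (h.trans (map_zero _).symm)
  rw [← germ_res, h1, germ_zero]

theorem surjective_of_epi (φ : F ⟶ G) [Epi φ] : Function.Surjective (ModSite.stalkMap p φ).hom := by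
  intro a
  obtain ⟨X, x, s, rfl⟩ := exists_germ p G a
  obtain ⟨S, hS, h⟩ := (TM0.epi_iff φ).1 inferInstance X s
  obtain ⟨Y, g, hg, y, rfl⟩ := p.jointly_surjective _ hS x
  obtain ⟨t, ht⟩ := h g hg
  refine ⟨ModSite.germ p F Y y t, ?_⟩
  rw [stalkMap_germ, ← germ_res]
  exact congrArg _ ht

theorem exists_kernel' (φ : F ⟶ G) (ψ : G ⟶ H) (w : φ ≫ ψ = 0) (h : (ShortComplex.mk φ ψ w).Exact)
    [Mono φ] (X : C) (t : ModSite.sect G X) (ht : sm ψ X t = 0) : ∃ s, sm φ X s = t := by
  have h0 := h.map_of_mono_of_preservesKernel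
    (SheafOfModules.evaluation (ModSite.ringSh O) (op X)) inferInstance inferInstance
  exact (ShortComplex.moduleCat_exact_iff _).1 h0 t ht

theorem exact (S : ShortComplex (ModSite.Mod O)) (hS : S.ShortExact) :
    LinearMap.range (ModSite.stalkMap p S.f).hom = LinearMap.ker (ModSite.stalkMap p S.g).hom := by
  have := hS.mono_f
  apply le_antisymm
  · rintro _ ⟨a, rfl⟩
    obtain ⟨X, x, s, rfl⟩ := exists_germ p S.X₁ a
    rw [LinearMap.mem_ker, stalkMap_germ, stalkMap_germ]
    have h : sm S.g X (sm S.f X s) = 0 := by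
      have := congrArg (fun (k : S.X₁ ⟶ S.X₃) => sm k X s) S.zero
      exact this
    rw [h, germ_zero]
  · intro a ha
    obtain ⟨X, x, s, rfl⟩ := exists_germ p S.X₂ a
    rw [LinearMap.mem_ker, stalkMap_germ, ← germ_zero p S.X₃ x, germ_eq_iff] at ha
    obtain ⟨Y, g, y, rfl, h⟩ := ha
    rw [← sm_rs, rs_zero] at h
    obtain ⟨t, ht⟩ := exists_kernel' S.f S.g S.zero hS.exact Y _ h
    refine ⟨ModSite.germ p S.X₁ Y y t, ?_⟩
    rw [stalkMap_germ, ht, germ_res]

end K295.StalkExact
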