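import Groth.Agent.ModSite.K295.PullFlat
import Groth.Agent.ModSite.K295.StalkExact
import Groth.Agent.ModSite.K295.AbsFlat

/-!
# Exactness of the inverse image of sheaves of modules
-/

set_option autoImplicit false

universe u

open CategoryTheory CategoryTheory.Limits Opposite K780.CovFlat K780.MorSite K295.CommaSite K295.InvRing
  K291.FreeOn K291.PullFree K295.ExtSc K295.FlatCrit K295.PullLoc K295.PullSec K295.EqCrit K295.PullFlat
  Groth.Agent.Dcoh TensorProduct

namespace K295.PullExact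

section Gen

variable {C : Type u} [SmallCategory C] {J : GrothendieckTopology C} {O : Sheaf J CommRingCat.{u}}
  {F G H : ModSite.Mod O}

theorem mono_of_loc (φ : F ⟶ G) (h : ∀ (U : C) (s : ModSite.sect F U), sc φ U s = 0 →
    Loc J U (fun _ g => rs F g s = 0)) : Mono φ := by
  rw [mono_iff_LI, LI_iff]
  exact h

theorem injective_of_mono (φ : F ⟶ G) [Mono φ] (U : C) : Function.Injective (sc φ U) :=
  (mono_iff_injective φ).1 inferInstance (op U)

theorem exists_lift_loc (ψ : G ⟶ H) [Epi ψ] {U : C} {n : ℕ} (z : Fin n → ModSite.sect H U) :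
    Loc J U (fun V g => ∃ w : Fin n → ModSite.sect G V, ∀ i, sc ψ V (w i) = rs H g (z i)) := by
  have h := (LS_iff _).1 ((epi_iff_LS ψ).1 inferInstance) U
  choose S hS hS' using fun i => h (z i)
  refine ⟨⨅ i, S i, MonW.iInf_mem S hS, fun V g hg => ?_⟩
  rw [MonW.iInf_arrows_iff] at hg
  choose w hw using fun i => hS' i g (hg i)
  exact ⟨w, hw⟩

theorem exists_kernel (S : ShortComplex (ModSite.Mod O)) (hS : S.ShortExact) (U : C)
    (t : ModSite.sect S.X₂ U) (ht : sc S.g U t = 0) : ∃ s, sc S.f U s = t := by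
  have := hS.mono_f
  exact StalkExact.exists_kernel' S.f S.g S.zero hS.exact U t ht

theorem sc_comp_zero (S : ShortComplex (ModSite.Mod O)) (U : C) (s : ModSite.sect S.X₁ U) :
    sc S.g U (sc S.f U s) = 0 := congrArg (fun (k : S.X₁ ⟶ S.X₃) => sc k U s) S.zero

theorem sc_sum (φ : F ⟶ G) {U : C} {n : ℕ} (a : Fin n → O.obj.obj (op U)) (s : Fin n → ModSite.sect F U) :
    sc φ U (∑ i, a i • s i) = ∑ i, a i • sc φ U (s i) := by
  rw [map_sum]
  exact Finset.sum_congr rfl fun i _ => sc_smul' φ _ _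

end Gen

variable {C D : Type u} [SmallCategory C] [SmallCategory D] {J : GrothendieckTopology C}
    {K : GrothendieckTopology D} {O_C : Sheaf J CommRingCat.{u}} {O_D : Sheaf K CommRingCat.{u}}
    (f : ModSite.RMor O_C O_D)

theorem map_pbc {M N : ModSite.Mod O_D} (φ : M ⟶ N) {U : C} {V : D} (c : U ⟶ f.fn.obj V) (m : ModSite.sect M V) :
    sc (f.pull.map φ) U (pbc f c m) = pbc f c (sc φ V m) := by
  rw [pbc_def, sc_rs, map_pb]
  rfl

theorem map_pbc_sum {M N : ModSite.Mod O_D} (φ : M ⟶ N) {U : C} {V : D} (c : U ⟶ f.fn.obj V) {n : ℕ}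
    (a : Fin n → O_C.obj.obj (op U)) (m : Fin n → ModSite.sect M V) :
    sc (f.pull.map φ) U (∑ i, a i • pbc f c (m i)) = ∑ i, a i • pbc f c (sc φ V (m i)) := by
  rw [sc_sum]
  exact Finset.sum_congr rfl fun i _ => by rw [map_pbc]

theorem alg2 {M : ModSite.Mod O_D} {U : C} {V : D} (c : U ⟶ f.fn.obj V) {n l k : ℕ}
    (a : Fin n → O_C.obj.obj (op U)) (β : Fin k → O_C.obj.obj (op U))
    (r : Fin n → Fin k → O_D.obj.obj (op V)) (r' : Fin l → Fin k → O_D.obj.obj (op V))
    (e1 : ∀ i, a i = ∑ p, rcc f c (r i p) * β p) (e2 : ∀ i, 0 = ∑ p, rcc f c (r' i p) * β p)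
    (m : Fin n → ModSite.sect M V) (y : Fin l → ModSite.sect M V)
    (e3 : ∀ p, ∑ i, r i p • m i + ∑ i, r' i p • y i = 0) : ∑ i, a i • pbc f c (m i) = 0 := by
  have h1 : ∑ i, a i • pbc f c (m i) = ∑ p, β p • pbc f c (∑ i, r i p • m i) := by
    simp only [e1, pbc_sum, Finset.sum_smul, Finset.smul_sum]
    rw [Finset.sum_comm]
    refine Finset.sum_congr rfl fun p _ => Finset.sum_congr rfl fun j _ => ?_
    rw [smul_smul, mul_comm]
  have h2 : ∑ p, β p • pbc f c (∑ i, r' i p • y i) = 0 := by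
    have : ∑ p, β p • pbc f c (∑ i, r' i p • y i) = ∑ i, (∑ p, rcc f c (r' i p) * β p) • pbc f c (y i) := by
      simp only [pbc_sum, Finset.sum_smul, Finset.smul_sum]
      rw [Finset.sum_comm]
      refine Finset.sum_congr rfl fun p _ => Finset.sum_congr rfl fun j _ => ?_
      rw [smul_smul, mul_comm]
    rw [this]
    refine Finset.sum_eq_zero fun i _ => ?_
    rw [← e2 i, zero_smul]
  have h3 : ∑ p, β p • pbc f c (∑ i, r i p • m i) + ∑ p, β p • pbc f c (∑ i, r' i p • y i) = 0 := by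
    rw [← Finset.sum_add_distrib]
    refine Finset.sum_eq_zero fun p _ => ?_
    rw [← smul_add, ← map_add, e3, map_zero, smul_zero]
  rw [h1]
  rw [h2, add_zero] at h3
  exact h3

/-- If `F ⟶ G` has flat cokernel then its inverse image is a monomorphism. -/
theorem mono_pull (S : ShortComplex (ModSite.Mod O_D)) (hS : S.ShortExact) (hH : ModSite.IsFlat S.X₃) :
    Mono (f.pull.map S.f) := by
  have := hS.mono_f
  have := hS.epi_g
  refine mono_of_loc _ fun U x hx => ?_
  refine ((Fact.out (p := IsCF f.fn J)).term U).bind ?_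
  rintro U1 h1 ⟨V1, ⟨c1⟩⟩
  refine (exists_sum f c1 (rs _ h1 x)).bind ?_
  rintro U2 h2 ⟨V2, c2, g2, w2, n, a, m, e1⟩
  have h0 : ∑ i, a i • pbc f c2 (sc S.f V2 (m i)) = 0 := by
    rw [← map_pbc_sum, ← e1, sc_rs, sc_rs, hx, map_zero, map_zero]
  refine (rel_left f c2 a _ h0).bind ?_
  rintro U3 h3 ⟨V3, c3, g3, w3, l, k, q, r, r', β, e2, e3, e4⟩
  have e5 : ∀ p, ∑ i, r' i p • sc S.g V3 (q i) = 0 := by
    intro p
    have := congrArg (sc S.g V3) (e4 p)
    rw [map_add, map_zero, sc_sum, sc_sum] at this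
    have h6 : ∀ i, sc S.g V3 (rs S.X₂ g3 (sc S.f V2 (m i))) = 0 := fun i => by
      rw [sc_rs, sc_comp_zero, map_zero]
    simp only [h6, smul_zero, Finset.sum_const_zero, zero_add] at this
    exact this
  obtain ⟨T, hT, H⟩ := ((isFlat_iff_relTriv S.X₃).1 hH).system (κ := Fin k) (ι := Fin l)
    (fun p i => r' i p) (fun i => sc S.g V3 (q i)) e5
  refine (loc_of_mem c3 hT).bind ?_
  rintro U4 h4 ⟨V4, c4, g4, w4, hg4⟩
  obtain ⟨⟨l', t, A, e6, e7⟩⟩ := H g4 hg4
  obtain ⟨T', hT', H'⟩ := exists_lift_loc S.g (U := V4) t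
  refine (loc_of_mem c4 hT').mono ?_
  rintro U5 h5 ⟨V5, c5, g5, w5, hg5⟩
  obtain ⟨w, hw⟩ := H' g5 hg5
  -- the sections `y i`
  have hy : ∀ i, ∃ y : ModSite.sect S.X₁ V5, sc S.f V5 y =
      rs S.X₂ g5 (rs S.X₂ g4 (q i)) - ∑ z, orr O_D g5 (A i z) • w z := by
    intro i
    refine exists_kernel S hS V5 _ ?_
    rw [map_sub, sc_sum, sc_rs, sc_rs]
    simp only [hw]
    rw [← rs_sum', sub_eq_zero]
    exact congrArg (rs S.X₃ g5) (e6 i)
  choose y hy using hy
  have e8 : ∀ p, ∑ i, orr O_D g5 (orr O_D g4 (r i p)) • rs S.X₁ g5 (rs S.X₁ g4 (rs S.X₁ g3 (m i))) +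
      ∑ i, orr O_D g5 (orr O_D g4 (r' i p)) • y i = 0 := by
    intro p
    apply injective_of_mono S.f V5
    rw [map_add, sc_sum, sc_sum, map_zero]
    simp only [hy, sc_rs, smul_sub, Finset.sum_sub_distrib]
    have k1 := congrArg (rs S.X₂ g5) (congrArg (rs S.X₂ g4) (e4 p))
    rw [map_add, map_zero, rs_sum', rs_sum', map_add, map_zero, rs_sum', rs_sum'] at k1
    have k2 : ∑ i, orr O_D g5 (orr O_D g4 (r' i p)) • ∑ z, orr O_D g5 (A i z) • w z = 0 := by
      simp only [Finset.smul_sum, smul_smul]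
      rw [Finset.sum_comm]
      refine Finset.sum_eq_zero fun z _ => ?_
      rw [← Finset.sum_smul]
      have k3 := congrArg (orr O_D g5) (e7 p z)
      rw [map_zero, map_sum] at k3
      have k4 : ∑ i, orr O_D g5 (orr O_D g4 (r' i p)) * orr O_D g5 (A i z) = 0 := by
        rw [← k3]
        refine Finset.sum_congr rfl fun i _ => ?_
        rw [map_mul, mul_comm]
      rw [k4, zero_smul]
    rw [k2, sub_zero]
    exact k1
  have w543 : ((h5 ≫ h4) ≫ h3) ≫ c2 = c5 ≫ f.fn.map ((g5 ≫ g4) ≫ g3) := by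
    rw [Category.assoc, w3, Functor.map_comp, Functor.map_comp, Category.assoc, reassoc_of% w4, reassoc_of% w5]
    simp
  rw [← rs_comp, ← rs_comp, e1, rs_sum']
  have e9 : ∀ i, rs _ ((h5 ≫ h4) ≫ h3) (pbc f c2 (m i)) = pbc f c5 (rs S.X₁ g5 (rs S.X₁ g4 (rs S.X₁ g3 (m i)))) := by
    intro i
    rw [← pbc_rs f c2 c5 _ _ w543, rs_comp, rs_comp, Category.assoc]
  simp only [e9]
  refine alg2 f c5 (l := l) (k := k) _ (fun p => orr O_C h5 (orr O_C h4 (β p)))
    (fun i p => orr O_D g5 (orr O_D g4 (r i p))) (fun i p => orr O_D g5 (orr O_D g4 (r' i p))) (fun i => ?_) (fun i => ?_)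
    _ y e8
  · rw [← orr_comp, ← orr_comp, e2, map_sum, map_sum]
    refine Finset.sum_congr rfl fun p _ => ?_
    rw [map_mul, map_mul, rcc_res f c4 c5 h5 g5 w5, rcc_res f c3 c4 h4 g4 w4]
  · have := congrArg (orr O_C h5) (congrArg (orr O_C h4) (e3 i))
    rw [map_zero, map_zero, map_sum, map_sum] at this
    refine this.trans (Finset.sum_congr rfl fun p _ => ?_)
    rw [map_mul, map_mul, rcc_res f c4 c5 h5 g5 w5, rcc_res f c3 c4 h4 g4 w4]

theorem preservesFiniteColimits_pull : PreservesFiniteColimits f.pull := by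
  have := f.adj.leftAdjoint_preservesColimits
  exact PreservesColimits.preservesFiniteColimits _

/-- The inverse image of a short exact sequence with flat right term is short exact. -/
theorem shortExact_pull (S : ShortComplex (ModSite.Mod O_D)) (hS : S.ShortExact) (hH : ModSite.IsFlat S.X₃) :
    (S.map f.pull).ShortExact := by
  have := preservesFiniteColimits_pull f
  have := hS.epi_g
  obtain ⟨h1, h2⟩ := AbsFlat.exact_and_epi f.pull S.f S.g S.zero hS.exact (S.map f.pull).zero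
  exact { exact := h1, mono_f := mono_pull f S hS hH, epi_g := h2 }

end K295.PullExact
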