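import Groth.Agent.ModSite.K295.PullSec
import Groth.Agent.ModSite.K295.EqCrit

/-!
# The inverse image of a flat sheaf of modules is flat
-/

set_option autoImplicit false

universe u

open CategoryTheory CategoryTheory.Limits Opposite K780.CovFlat K780.MorSite K295.CommaSite K295.InvRing
  K291.FreeOn K291.PullFree K295.ExtSc K295.FlatCrit K295.PullLoc K295.PullSec K295.EqCrit
  Groth.Agent.Dcoh TensorProduct

namespace K295.PullFlat

/-- Flatness of a sheaf of modules by the equational criterion. -/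
theorem isFlat_iff_relTriv {C : Type u} [SmallCategory C] {J : GrothendieckTopology C}
    {O : Sheaf J CommRingCat.{u}} (F : ModSite.Mod O) :
    ModSite.IsFlat F ↔ RelTriv J ((K291.Mon.toP O).obj F) := by
  rw [isFlat_iff_LI_injective, relTriv_iff]
  rfl

/-- Flatness, elementwise. -/
theorem isFlat_iff_loc {C : Type u} [SmallCategory C] {J : GrothendieckTopology C}
    {O : Sheaf J CommRingCat.{u}} (F : ModSite.Mod O) :
    ModSite.IsFlat F ↔ ∀ (U : C) (n : ℕ) (a : Fin n → O.obj.obj (op U)) (s : Fin n → ModSite.sect F U),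
      ∑ j, a j • s j = 0 → Loc J U (fun V g => ∃ (l : ℕ) (t : Fin l → ModSite.sect F V)
        (b : Fin n → Fin l → O.obj.obj (op V)), (∀ j, rs F g (s j) = ∑ k, b j k • t k) ∧
          (∀ k, ∑ j, b j k * orr O g (a j) = 0)) := by
  rw [isFlat_iff_relTriv]
  rfl

theorem alg {R A : Type*} [CommRing R] [CommRing A] (φ : R →+* A) {N l k : ℕ} (α : Fin N → A) (β : Fin k → A)
    (r : Fin N → Fin k → R) (r' : Fin l → Fin k → R) (e1 : ∀ j, α j = ∑ p, φ (r j p) * β p)
    (e2 : ∀ i, 0 = ∑ p, φ (r' i p) * β p) (a : Fin N → R) (a' : Fin l → R)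
    (e3 : ∀ p, ∑ j, a j * r j p + ∑ i, a' i * r' i p = 0) : ∑ j, α j * φ (a j) = 0 := by
  have h1 : ∑ j, α j * φ (a j) = ∑ p, β p * φ (∑ j, a j * r j p) := by
    simp only [e1, Finset.sum_mul, map_sum, Finset.mul_sum]
    rw [Finset.sum_comm]
    refine Finset.sum_congr rfl fun p _ => Finset.sum_congr rfl fun j _ => ?_
    rw [map_mul]; ring
  have h2 : ∑ p, β p * φ (∑ i, a' i * r' i p) = 0 := by
    have : ∑ p, β p * φ (∑ i, a' i * r' i p) = ∑ i, (∑ p, φ (r' i p) * β p) * φ (a' i) := by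
      simp only [Finset.sum_mul, map_sum, Finset.mul_sum]
      rw [Finset.sum_comm]
      refine Finset.sum_congr rfl fun p _ => Finset.sum_congr rfl fun j _ => ?_
      rw [map_mul]; ring
    rw [this]
    refine Finset.sum_eq_zero fun i _ => ?_
    rw [← e2 i, zero_mul]
  have h3 : ∑ p, β p * φ (∑ j, a j * r j p) + ∑ p, β p * φ (∑ i, a' i * r' i p) = 0 := by
    rw [← Finset.sum_add_distrib]
    refine Finset.sum_eq_zero fun p _ => ?_
    rw [← mul_add, ← map_add, e3, map_zero, mul_zero]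
  rw [h1]
  rw [h2, add_zero] at h3
  exact h3

variable {C D : Type u} [SmallCategory C] [SmallCategory D] {J : GrothendieckTopology C}
    {K : GrothendieckTopology D} {O_C : Sheaf J CommRingCat.{u}} {O_D : Sheaf K CommRingCat.{u}}
    (f : ModSite.RMor O_C O_D)

theorem orr_sum (O : Sheaf J CommRingCat.{u}) {U V : C} (g : V ⟶ U) {ι : Type*} (S : Finset ι) (r : ι → O.obj.obj (op U)) :
    orr O g (∑ i ∈ S, r i) = ∑ i ∈ S, orr O g (r i) := map_sum _ _ _

theorem pbc_sum {M : ModSite.Mod O_D} {U : C} {V : D} (c : U ⟶ f.fn.obj V) {n : ℕ} (r : Fin n → O_D.obj.obj (op V))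
    (y : Fin n → ModSite.sect M V) : pbc f c (∑ i, r i • y i) = ∑ i, rcc f c (r i) • pbc f c (y i) := by
  rw [map_sum]
  exact Finset.sum_congr rfl fun z _ => pbc_smul' f c _ _

theorem isFlat_pull (M : ModSite.Mod O_D) (hM : ModSite.IsFlat M) : ModSite.IsFlat (f.pull.obj M) := by
  rw [isFlat_iff_loc]
  intro U n a x hx
  refine ((Fact.out (p := IsCF f.fn J)).term U).bind ?_
  rintro U1 h1 ⟨V1, ⟨c1⟩⟩
  refine (exists_sums f c1 (fun i => rs _ h1 (x i))).bind ?_
  rintro U2 h2 ⟨V2, c2, g2, w2, N, m, b, e1⟩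
  -- the relation
  let α : Fin N → O_C.obj.obj (op U2) := fun j => ∑ i, b i j * orr O_C (h2 ≫ h1) (a i)
  have hα : ∑ j, α j • pbc f c2 (m j) = 0 := by
    have : ∑ j, α j • pbc f c2 (m j) = rs _ (h2 ≫ h1) (∑ i, a i • x i) := by
      rw [rs_sum']
      simp only [← rs_comp, e1, α, Finset.smul_sum, Finset.sum_smul, smul_smul]
      rw [Finset.sum_comm]
      refine Finset.sum_congr rfl fun i _ => Finset.sum_congr rfl fun j _ => ?_
      rw [mul_comm]
    rw [this, hx, map_zero]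
  refine (rel_left f c2 α m hα).bind ?_
  rintro U3 h3 ⟨V3, c3, g3, w3, l, k, q, r, r', β, e2, e3, e4⟩
  obtain ⟨S, hS, H⟩ := ((isFlat_iff_relTriv M).1 hM).system (κ := Fin k) (ι := Fin N ⊕ Fin l)
    (fun p i => Sum.elim (fun j => r j p) (fun i => r' i p) i)
    (Sum.elim (fun j => rs M g3 (m j)) q) (fun p => by
      rw [Fintype.sum_sum_type]
      exact e4 p)
  refine (loc_of_mem c3 hS).mono ?_
  rintro U4 h4 ⟨V4, c4, g4, w4, hg4⟩
  obtain ⟨⟨l', t, A, e5, e6⟩⟩ := H g4 hg4
  have w34 : (h4 ≫ h3) ≫ c2 = c4 ≫ f.fn.map (g4 ≫ g3) := by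
    rw [Category.assoc, w3, Functor.map_comp, reassoc_of% w4]
  refine ⟨l', fun z => pbc f c4 (t z), fun i z => ∑ j, orr O_C (h4 ≫ h3) (b i j) * rcc f c4 (A (Sum.inl j) z), ?_, ?_⟩
  · intro i
    have e7 : ∀ j, rs _ (h4 ≫ h3) (pbc f c2 (m j)) = ∑ z, rcc f c4 (A (Sum.inl j) z) • pbc f c4 (t z) := by
      intro j
      rw [← pbc_rs f c2 c4 (h4 ≫ h3) (g4 ≫ g3) w34, ← rs_comp]
      have := congrArg (pbc f c4) (e5 (Sum.inl j))
      exact this.trans (pbc_sum f c4 _ _)
    rw [← rs_comp, ← rs_comp, e1, rs_sum']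
    simp only [e7, Finset.smul_sum, Finset.sum_smul, smul_smul]
    rw [Finset.sum_comm]
  · intro z
    have e8 : ∑ j, orr O_C (h4 ≫ h3) (α j) * rcc f c4 (A (Sum.inl j) z) = 0 := by
      refine alg (rcc f c4) (k := k) (l := l) (fun j => orr O_C (h4 ≫ h3) (α j)) (fun p => orr O_C h4 (β p))
        (fun j p => orr O_D g4 (r j p)) (fun i p => orr O_D g4 (r' i p)) (fun j => ?_) (fun i => ?_)
        (fun j => A (Sum.inl j) z) (fun i => A (Sum.inr i) z) (fun p => ?_)
      · rw [← orr_comp, e2, map_sum]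
        refine Finset.sum_congr rfl fun p _ => ?_
        rw [map_mul, rcc_res f c3 c4 h4 g4 w4]
      · have := congrArg (orr O_C h4) (e3 i)
        rw [map_zero, map_sum] at this
        refine this.trans (Finset.sum_congr rfl fun p _ => ?_)
        rw [map_mul, rcc_res f c3 c4 h4 g4 w4]
      · have := e6 p z
        rw [Fintype.sum_sum_type] at this
        exact this
    rw [← e8]
    simp only [α, orr_sum, map_mul, Finset.sum_mul, orr_comp]
    rw [Finset.sum_comm]
    refine Finset.sum_congr rfl fun j _ => Finset.sum_congr rfl fun i _ => ?_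
    simp only [Category.assoc]
    ring

end K295.PullFlat
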