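import Groth.Agent.ModSite.K295.InvRing2
import Groth.Agent.ModSite.K295.PullExact

/-!
# Flat morphisms of ringed sites

If `O_C` is flat over `f⁻¹ O_D` then `f^*` preserves finite limits.
-/

set_option autoImplicit false

universe u

open CategoryTheory CategoryTheory.Limits Opposite K780.CovFlat K780.MorSite K295.CommaSite K295.InvRing
  K291.FreeOn K291.PullFree K295.ExtSc K295.FlatCrit K295.PullLoc K295.PullSec K295.EqCrit K295.PullFlat
  K295.PullExact K295.InvRing2 Groth.Agent.Dcoh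

namespace K295.PullLex

variable {C D : Type u} [SmallCategory C] [SmallCategory D] {J : GrothendieckTopology C}
    {K : GrothendieckTopology D} {O_C : Sheaf J CommRingCat.{u}} {O_D : Sheaf K CommRingCat.{u}}
    (f : ModSite.RMor O_C O_D)

/-- Sections of `O_C` as sections of the `f⁻¹ O_D`-module `O_C`. -/
def bs (U : C) : O_C.obj.obj (op U) ≃+ ModSite.sect f.baseMod U where
  toFun a := a
  invFun a := a
  left_inv _ := rfl
  right_inv _ := rfl
  map_add' _ _ := rfl

theorem smul_bs {U : C} (t : f.invRing.obj.obj (op U)) (a : O_C.obj.obj (op U)) :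
    t • bs f U a = bs f U ((f.invSharp.hom.app (op U)).hom t * a) := rfl

theorem iv_smul_bs {U : C} {V : D} (c : U ⟶ f.fn.obj V) (s : O_D.obj.obj (op V)) (a : O_C.obj.obj (op U)) :
    iv f c s • bs f U a = bs f U (rcc f c s * a) := by
  rw [smul_bs, invSharp_iv]

theorem rs_bs {U U' : C} (h : U' ⟶ U) (a : O_C.obj.obj (op U)) :
    rs f.baseMod h (bs f U a) = bs f U' (orr O_C h a) := rfl

variable {f} in
theorem mono_pull_of_isFlat_baseMod (hf : ModSite.IsFlat f.baseMod) {M' M : ModSite.Mod O_D} (i : M' ⟶ M) [Mono i] :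
    Mono (f.pull.map i) := by
  refine mono_of_loc _ fun U x hx => ?_
  refine ((Fact.out (p := IsCF f.fn J)).term U).bind ?_
  rintro U1 h1 ⟨V1, ⟨c1⟩⟩
  refine (exists_sum f c1 (rs _ h1 x)).bind ?_
  rintro U2 h2 ⟨V2, c2, g2, w2, n, a, m, e1⟩
  have h0 : ∑ j, a j • pbc f c2 (sc i V2 (m j)) = 0 := by
    rw [← map_pbc_sum, ← e1, sc_rs, sc_rs, hx, map_zero, map_zero]
  refine (rel_right f c2 a _ h0).bind ?_
  rintro U3 h3 ⟨V3, c3, g3, w3, l, k, q, r, r', y, e2, e3, e4⟩
  -- relations in `O_C` over `f⁻¹ O_D`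
  let R : Fin n ⊕ Fin l → Fin k → O_D.obj.obj (op V3) := Sum.elim r r'
  let S : Fin n ⊕ Fin l → ModSite.sect f.baseMod U3 := Sum.elim (fun j => bs f U3 (orr O_C h3 (a j))) (fun j => bs f U3 (q j))
  have e5 : ∀ p, ∑ j, iv f c3 (R j p) • S j = 0 := by
    intro p
    rw [Fintype.sum_sum_type]
    have := congrArg (bs f U3) (e4 p)
    rw [map_add, map_sum, map_sum, map_zero] at this
    refine Eq.trans ?_ this
    congr 1 <;> exact Finset.sum_congr rfl fun j _ => iv_smul_bs f c3 _ _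
  obtain ⟨T, hT, H⟩ := ((isFlat_iff_relTriv f.baseMod).1 hf).system (κ := Fin k) (ι := Fin n ⊕ Fin l)
    (fun p j => iv f c3 (R j p)) S e5
  refine Loc.bind (φ := fun _ g => T g) ⟨T, hT, fun U4 h4 hh => hh⟩ ?_
  rintro U4 h4 hh4
  obtain ⟨⟨L, t, A, e6, e7⟩⟩ := H h4 hh4
  refine (exists_ivs f (h4 ≫ c3) (fun (jz : (Fin n ⊕ Fin l) × Fin L) => A jz.1 jz.2)).bind ?_
  rintro U5 h5 ⟨V5, c5, g5, w5, B, e8⟩
  have w5' : (h5 ≫ h4) ≫ c3 = c5 ≫ f.fn.map g5 := by rw [Category.assoc, w5]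
  have e9 : ∀ pz : Fin k × Fin L, iv f c5 (∑ j, B (j, pz.2) * orr O_D g5 (R j pz.1)) = 0 := by
    intro pz
    have h7 := congrArg (orr f.invRing h5) (e7 pz.1 pz.2)
    rw [map_zero, map_sum] at h7
    rw [map_sum, ← h7]
    refine Finset.sum_congr rfl fun j _ => ?_
    rw [map_mul, map_mul, ← iv_res' f c3 c5 (h5 ≫ h4) g5 w5', ← orr_comp]
    congr 1
    exact (e8 (j, pz.2)).symm
  refine (eq_ivs f c5 _ e9).mono ?_
  rintro U6 h6 ⟨V6, c6, g6, w6, e10⟩
  have e11 : ∀ z, ∑ j, orr O_D g6 (B (Sum.inl j, z)) • rs M' g6 (rs M' g5 (rs M' g3 (m j))) = 0 := by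
    intro z
    apply injective_of_mono i V6
    rw [map_zero, sc_sum]
    simp only [sc_rs, e2, rs_sum', Finset.smul_sum, smul_smul]
    have k1 : ∀ p, ∑ j, orr O_D g6 (B (Sum.inl j, z)) * orr O_D g6 (orr O_D g5 (r j p)) +
        ∑ j, orr O_D g6 (B (Sum.inr j, z)) * orr O_D g6 (orr O_D g5 (r' j p)) = 0 := by
      intro p
      have := e10 (p, z)
      rw [Fintype.sum_sum_type, map_add, map_sum, map_sum] at this
      simp only [map_mul] at this
      exact this
    have k2 : ∑ j, ∑ p, (orr O_D g6 (B (Sum.inr j, z)) * orr O_D g6 (orr O_D g5 (r' j p))) • rs M g6 (rs M g5 (y p)) = 0 := by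
      refine Finset.sum_eq_zero fun j _ => ?_
      have := congrArg (rs M g6) (congrArg (rs M g5) (e3 j))
      rw [map_zero, map_zero, rs_sum', rs_sum'] at this
      simp only [mul_smul]
      rw [← Finset.smul_sum, ← this, smul_zero]
    have k3 : ∑ j, ∑ p, (orr O_D g6 (B (Sum.inl j, z)) * orr O_D g6 (orr O_D g5 (r j p))) • rs M g6 (rs M g5 (y p)) +
        ∑ j, ∑ p, (orr O_D g6 (B (Sum.inr j, z)) * orr O_D g6 (orr O_D g5 (r' j p))) • rs M g6 (rs M g5 (y p)) = 0 := by
      refine (congrArg₂ (· + ·) Finset.sum_comm Finset.sum_comm).trans ?_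
      rw [← Finset.sum_add_distrib]
      refine Finset.sum_eq_zero fun p _ => ?_
      rw [← Finset.sum_smul, ← Finset.sum_smul, ← add_smul, k1, zero_smul]
    rw [k2, add_zero] at k3
    exact k3
  -- the final computation
  let τ : Fin L → O_C.obj.obj (op U6) := fun z => orr O_C (h6 ≫ h5) ((bs f U4).symm (t z))
  have e12 : ∀ j, orr O_C ((h6 ≫ h5) ≫ h4) (orr O_C h3 (a j)) =
      ∑ z, rcc f c6 (orr O_D g6 (B (Sum.inl j, z))) * τ z := by
    intro j
    have k1 := (congrArg (rs f.baseMod (h6 ≫ h5)) (e6 (Sum.inl j))).trans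
      (rs_sum' f.baseMod (h6 ≫ h5) (A (Sum.inl j)) t)
    apply (bs f U6).injective
    rw [← orr_comp, map_sum]
    refine Eq.trans ?_ (k1.trans ?_)
    · rfl
    · refine Finset.sum_congr rfl fun z _ => ?_
      have k2 : orr f.invRing (h6 ≫ h5) (A (Sum.inl j) z) = iv f c6 (orr O_D g6 (B (Sum.inl j, z))) := by
        rw [← orr_comp]
        exact (congrArg (orr f.invRing h6) (e8 (Sum.inl j, z))).trans (iv_res' f c5 c6 h6 g6 w6 _)
      rw [← iv_smul_bs, k2]
      rfl
  have w6543 : (((h6 ≫ h5) ≫ h4) ≫ h3) ≫ c2 = c6 ≫ f.fn.map ((g6 ≫ g5) ≫ g3) := by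
    rw [Category.assoc, w3, Functor.map_comp, Functor.map_comp, Category.assoc, Category.assoc, reassoc_of% w5,
      reassoc_of% w6]
    simp
  rw [← rs_comp, ← rs_comp, e1, rs_sum']
  have e13 : ∀ i, rs _ (((h6 ≫ h5) ≫ h4) ≫ h3) (pbc f c2 (m i)) = pbc f c6 (rs M' g6 (rs M' g5 (rs M' g3 (m i)))) := by
    intro i
    rw [← pbc_rs f c2 c6 _ _ w6543, rs_comp, rs_comp, Category.assoc]
  simp only [e13]
  refine alg2 f c6 (l := 0) (k := L) _ τ (fun i p => orr O_D g6 (B (Sum.inl i, p))) (fun i => i.elim0)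
    (fun j => ?_) (fun i => i.elim0) _ (fun i => i.elim0) (fun z => ?_)
  · rw [← orr_comp, e12]
  · rw [e11, Finset.univ_eq_empty, Finset.sum_empty, add_zero]

variable {f} in
/-- If `O_C` is flat over `f⁻¹ O_D` then `f` is flat. -/
theorem isFlat_of_isFlat_baseMod (hf : ModSite.IsFlat f.baseMod) : f.IsFlat := by
  have := preservesFiniteColimits_pull f
  have : f.pull.PreservesZeroMorphisms := AbsFlat.preservesZero f.pull
  have : PreservesBinaryBiproducts f.pull := preservesBinaryBiproducts_of_preservesBinaryCoproducts f.pull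
  have : f.pull.Additive := Functor.additive_of_preservesBinaryBiproducts f.pull
  refine ((Functor.preservesFiniteLimits_tfae f.pull).out 0 3).1 fun S hS => ?_
  have := hS.epi_g
  have := hS.mono_f
  obtain ⟨h1, h2⟩ := AbsFlat.exact_and_epi f.pull S.f S.g S.zero hS.exact (S.map f.pull).zero
  exact ⟨h1, mono_pull_of_isFlat_baseMod hf S.f⟩

end K295.PullLex
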