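import Groth.Agent.ModSite.K295.InvRing
import Groth.Agent.ModSite.K295.DenseMod
import Groth.Agent.ModSite.K295.ExtSc
import Groth.Agent.ModSite.K295.FlatCrit
import Groth.Agent.ModSite.K291.PullFree

/-!
# The inverse image of a sheaf of modules, locally

For a morphism of ringed sites `f : (C, O_C) → (D, O_D)` and a sheaf of `O_D`-modules `M`, the
restriction of `f^* M` to the comma site is the sheaf associated to
`(U, V, c : U ⟶ fn V) ↦ O_C(U) ⊗_{O_D(V)} M(V)`.
-/

set_option autoImplicit false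

universe u

open CategoryTheory CategoryTheory.Limits Opposite K780.CovFlat K780.MorSite K295.CommaSite K295.InvRing
  K291.FreeOn K291.PullFree K295.ExtSc K295.FlatCrit Groth.Agent.Dcoh TensorProduct

namespace K295.PullLoc

variable {C D : Type u} [SmallCategory C] [SmallCategory D] {J : GrothendieckTopology C}
    {K : GrothendieckTopology D} {O_C : Sheaf J CommRingCat.{u}} {O_D : Sheaf K CommRingCat.{u}}
    (f : ModSite.RMor O_C O_D)

/-- The structure sheaf of the comma site. -/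
abbrev OE : Sheaf (CT (fn := f.fn) J) CommRingCat.{u} :=
  ((cp f.fn).sheafPushforwardContinuous CommRingCat.{u} _ J).obj O_C

/-- The ring map `O_D(V) ⟶ O_C(U)` for `c : U ⟶ fn V`. -/
abbrev ρ : (cq f.fn).op ⋙ O_D.obj ⟶ (OE f).obj := CommaSite.ext f.sharp.hom

/-- Restriction of modules to the comma site. -/
noncomputable abbrev rE : ModSite.Mod O_C ⥤ ModSite.Mod (OE f) :=
  SheafOfModules.pushforward.{u} (F := cp f.fn) (R := ModSite.ringSh O_C) (S := ModSite.ringSh (OE f)) (𝟙 _)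

instance : (rE f).IsEquivalence :=
  inferInstanceAs ((DenseMod.res (cp f.fn) (CT (fn := f.fn) J) (ModSite.ringSh O_C)).IsEquivalence)

/-- The ring map `O_D(V) ⟶ O_C(U)` for `c : U ⟶ fn V`. -/
noncomputable def rc {U : C} {V : D} (c : U ⟶ f.fn.obj V) : Rg O_D V →+* Rg O_C U :=
  (rr O_C c).comp (shp f V)

variable {M : ModSite.Mod O_D}

/-- The pullback of a section along `c : U ⟶ fn V`. -/
noncomputable def pbc {U : C} {V : D} (c : U ⟶ f.fn.obj V) :
    ModSite.sect M V →+ ModSite.sect (f.pull.obj M) U where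
  toFun m := rs _ c (pb f m)
  map_zero' := by rw [pb_zero, map_zero]
  map_add' m n := by rw [pb_add, map_add]

theorem pbc_def {U : C} {V : D} (c : U ⟶ f.fn.obj V) (m : ModSite.sect M V) :
    pbc f c m = rs _ c (pb f m) := rfl

theorem pbc_smul {U : C} {V : D} (c : U ⟶ f.fn.obj V) (r : Rg O_D V) (m : ModSite.sect M V) :
    pbc f c (r • m) = rc f c r • pbc f c m := by
  rw [pbc_def, pb_smul, rs_smul]
  rfl

theorem pbc_rs {U U' : C} {V V' : D} (c : U ⟶ f.fn.obj V) (c' : U' ⟶ f.fn.obj V') (h : U' ⟶ U)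
    (g : V' ⟶ V) (w : h ≫ c = c' ≫ f.fn.map g) (m : ModSite.sect M V) :
    pbc f c' (rs M g m) = rs _ h (pbc f c m) := by
  rw [pbc_def, pbc_def, pb_rs, rs_comp, rs_comp, w]

variable (M)

/-- The presheaf of modules on the comma site induced by `M`. -/
noncomputable abbrev ME : PresheafOfModules.{u} (((cq f.fn).op ⋙ O_D.obj) ⋙ forget₂ CommRingCat.{u} RingCat.{u}) :=
  (PresheafOfModules.pushforward₀OfCommRingCat (cq f.fn) O_D.obj).obj M.val

/-- The presheaf `(U, V, c) ↦ O_C(U) ⊗_{O_D(V)} M(V)`. -/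
noncomputable abbrev QE : PresheafOfModules.{u} ((OE f).obj ⋙ forget₂ CommRingCat.{u} RingCat.{u}) :=
  extP (ρ f) (ME f M)

/-- The comparison morphism. -/
noncomputable def κ : QE f M ⟶ ((rE f).obj (f.pull.obj M)).val :=
  desc (N := ((rE f).obj (f.pull.obj M)).val) (fun X => (pbc f X.unop.hom : ModSite.sect M X.unop.right →+ _))
    (fun X a m => pbc_smul f X.unop.hom a m)
    (fun X Y k m => pbc_rs f X.unop.hom Y.unop.hom k.unop.left k.unop.right k.unop.w m)

theorem κ_tm (X : (CE f.fn)ᵒᵖ) (a : Rg O_C X.unop.left) (m : ModSite.sect M X.unop.right) :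
    (κ f M).app X (tm (ρ f) (ME f M) a m) =
      ((a • (pbc f X.unop.hom m : ModSite.sect (f.pull.obj M) X.unop.left) : ModSite.sect (f.pull.obj M) X.unop.left)) := rfl

/-- A morphism of presheaves of modules is a local isomorphism if it is orthogonal to sheaves. -/
theorem WO_of_bijective {C : Type u} [SmallCategory C] {J : GrothendieckTopology C} {O : Sheaf J CommRingCat.{u}}
    {P Q : K291.Mon.PM O} (f : P ⟶ Q) (h : ∀ F : ModSite.Mod O, Function.Bijective
      (fun g : Q ⟶ (K291.Mon.toP O).obj F => f ≫ g)) : K291.Mon.WO O f := by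
  rw [K291.Mon.WO_iff, isIso_iff_coyoneda_map_bijective]
  intro F
  have e : (fun x => (K291.Mon.shP O).map f ≫ x) =
      ((K291.Mon.shAdj O).homEquiv P F).symm ∘ (fun g : Q ⟶ (K291.Mon.toP O).obj F => f ≫ g) ∘
        ((K291.Mon.shAdj O).homEquiv Q F) := by
    funext x
    apply ((K291.Mon.shAdj O).homEquiv P F).injective
    simp [Adjunction.homEquiv_naturality_left]
  rw [e]
  exact (Equiv.bijective _).comp ((h F).comp (Equiv.bijective _))

section Univ

variable {M} {F : ModSite.Mod O_C}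

/-- The value of a morphism on `1 ⊗ m`. -/
noncomputable def ev (χ : QE f M ⟶ ((rE f).obj F).val) {U : C} {V : D} (c : U ⟶ f.fn.obj V) :
    ModSite.sect M V →+ ModSite.sect F U where
  toFun m := χ.app (op (ob f.fn c)) (tm (ρ f) (ME f M) (1 : O_C.obj.obj (op U)) m)
  map_zero' := (congrArg (χ.app (op (ob f.fn c))) (tm_zero (ρ f) (ME f M) (X := op (ob f.fn c)) (1 : O_C.obj.obj (op U)))).trans
    (χ.app (op (ob f.fn c))).hom.map_zero
  map_add' m m' := (congrArg (χ.app (op (ob f.fn c))) (tm_add (ρ f) (ME f M) (X := op (ob f.fn c))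
    (1 : O_C.obj.obj (op U)) m m')).trans ((χ.app (op (ob f.fn c))).hom.map_add _ _)

theorem ev_def (χ : QE f M ⟶ ((rE f).obj F).val) {U : C} {V : D} (c : U ⟶ f.fn.obj V) (m : ModSite.sect M V) :
    ev f χ c m = χ.app (op (ob f.fn c)) (tm (ρ f) (ME f M) (1 : O_C.obj.obj (op U)) m) := rfl

theorem ev_smul (χ : QE f M ⟶ ((rE f).obj F).val) {U : C} {V : D} (c : U ⟶ f.fn.obj V) (r : Rg O_D V)
    (m : ModSite.sect M V) : ev f χ c (r • m) = rc f c r • ev f χ c m := by
  have h := tm_smul (ρ f) (ME f M) (X := op (ob f.fn c)) (1 : O_C.obj.obj (op U)) r m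
  refine (congrArg (χ.app (op (ob f.fn c))) h).trans ?_
  exact (χ.app (op (ob f.fn c))).hom.map_smul _ _

theorem ev_rs (χ : QE f M ⟶ ((rE f).obj F).val) {U U' : C} {V V' : D} (c : U ⟶ f.fn.obj V) (c' : U' ⟶ f.fn.obj V')
    (h : U' ⟶ U) (g : V' ⟶ V) (w : h ≫ c = c' ≫ f.fn.map g) (m : ModSite.sect M V) :
    ev f χ c' (rs M g m) = rs F h (ev f χ c m) := by
  have e := PresheafOfModules.naturality_apply χ (Quiver.Hom.op (mr h g w)) (tm (ρ f) (ME f M) (1 : O_C.obj.obj (op U)) m)
  refine Eq.trans ?_ e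
  have e2 := map_tm (ρ f) (ME f M) (Quiver.Hom.op (mr h g w)) (1 : O_C.obj.obj (op U)) m
  have e3 : ((OE f).obj.map (Quiver.Hom.op (mr h g w))).hom (1 : O_C.obj.obj (op U)) = (1 : O_C.obj.obj (op U')) :=
    map_one _
  rw [e3] at e2
  exact congrArg (χ.app (op (ob f.fn c'))) e2.symm

theorem rc_one {V : D} (r : Rg O_D V) : rc f (𝟙 (f.fn.obj V)) r = shp f V r := by
  change (rr O_C (𝟙 _)) (shp f V r) = _
  have : rr O_C (𝟙 (f.fn.obj V)) = RingHom.id _ := by
    change ((ModSite.ringSh O_C).obj.map (𝟙 (op (f.fn.obj V)))).hom = _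
    rw [(ModSite.ringSh O_C).obj.map_id]
    rfl
  rw [this]
  rfl

/-- The morphism `M ⟶ f_* F` induced by a morphism on the comma site. -/
noncomputable def toPush (χ : QE f M ⟶ ((rE f).obj F).val) : M ⟶ f.push.obj F :=
  ⟨PresheafOfModules.homMk (M₁ := M.val) (M₂ := (f.push.obj F).val)
    { app := fun V => AddCommGrpCat.ofHom (ev f χ (𝟙 (f.fn.obj V.unop)))
      naturality := fun V V' g => by
        ext m
        exact ev_rs f χ (𝟙 _) (𝟙 _) (f.fn.map g.unop) g.unop (by simp) m }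
    (fun V r m => (ev_smul f χ (𝟙 _) r m).trans (by
      rw [rc_one]
      rfl))⟩

theorem toPush_sc (χ : QE f M ⟶ ((rE f).obj F).val) (V : D) (m : ModSite.sect M V) :
    pushSec f F V (sc (toPush f χ) V m) = ev f χ (𝟙 _) m := rfl

theorem κ_tm1 {U : C} {V : D} (c : U ⟶ f.fn.obj V) (m : ModSite.sect M V) :
    (κ f M).app (op (ob f.fn c)) (tm (ρ f) (ME f M) (1 : O_C.obj.obj (op U)) m) = pbc f c m := by
  refine (κ_tm f M (op (ob f.fn c)) 1 m).trans ?_
  exact one_smul (Rg O_C U) (pbc f c m)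

theorem ev_comp (φ : f.pull.obj M ⟶ F) {U : C} {V : D} (c : U ⟶ f.fn.obj V) (m : ModSite.sect M V) :
    ev f (κ f M ≫ ((rE f).map φ).val) c m = sc φ U (pbc f c m) := by
  rw [ev_def]
  exact congrArg (sc φ U) (κ_tm1 f c m)

variable (M F) in
theorem κ_bijective : Function.Bijective (fun φ : f.pull.obj M ⟶ F => κ f M ≫ ((rE f).map φ).val) := by
  constructor
  · intro φ ψ h
    refine pull_hom_ext f fun V m => ?_
    have h1 := ev_comp f φ (𝟙 (f.fn.obj V)) m
    have h2 := ev_comp f ψ (𝟙 (f.fn.obj V)) m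
    have h3 : κ f M ≫ ((rE f).map φ).val = κ f M ≫ ((rE f).map ψ).val := h
    rw [h3, h2, pbc_def, rs_id] at h1
    exact h1.symm
  · intro χ
    refine ⟨(f.adj.homEquiv M F).symm (toPush f χ), ExtSc.hom_ext (ρ f) (ME f M) fun X m => ?_⟩
    have h1 := ev_comp f ((f.adj.homEquiv M F).symm (toPush f χ)) X.unop.hom m
    refine h1.trans ?_
    rw [pbc_def, sc_rs, homEquiv_symm_pb, toPush_sc]
    exact (ev_rs f χ (𝟙 _) X.unop.hom X.unop.hom (𝟙 _) (by simp) m).symm.trans (by rw [rs_id]; rfl)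

variable (M) in
/-- The comparison morphism is a local isomorphism. -/
theorem κ_WO : K291.Mon.WO (OE f) (κ f M) := by
  refine WO_of_bijective _ fun F' => ?_
  obtain ⟨F, ⟨i⟩⟩ := Functor.EssSurj.mem_essImage (F := rE f) F'
  have h := κ_bijective f M F
  have hT : Function.Bijective (fun φ : f.pull.obj M ⟶ F => (K291.Mon.toP (OE f)).map ((rE f).map φ ≫ i.hom)) :=
    ((Functor.FullyFaithful.ofFullyFaithful (K291.Mon.toP (OE f))).map_bijective _ _).comp
      (i.homToEquiv.bijective.comp ((Functor.FullyFaithful.ofFullyFaithful (rE f)).map_bijective _ _))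
  have hi : Function.Bijective (fun g : QE f M ⟶ (K291.Mon.toP (OE f)).obj ((rE f).obj F) => g ≫ (K291.Mon.toP (OE f)).map i.hom) :=
    ((K291.Mon.toP (OE f)).mapIso i).homToEquiv.bijective
  refine (Function.Bijective.of_comp_iff _ hT).1 ?_
  exact hi.comp h

end Univ

end K295.PullLoc
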