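import Groth.Agent.S3087
import Groth.Prelude.Def_ModSite2
import Mathlib.CategoryTheory.Sites.Point.Over
import Mathlib.CategoryTheory.Sites.Point.Skyscraper

/-!
# The stalks of the extension by zero

For a point `p` of a site, an object `U` and a module `G` on `C/U`, the stalk at `p` of the extension by
zero of `G` is the direct sum, over the points of `C/U` over `p`, of the stalks of `G`.
-/

set_option autoImplicit false

universe u

open CategoryTheory CategoryTheory.Limits Opposite

namespace K295.ShriekStalk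

open Groth.Agent.Sga4A.ModShriek

variable {C : Type u} [SmallCategory C] {J : GrothendieckTopology C}
  (p : GrothendieckTopology.Point.{u} J) {R : Cᵒᵖ ⥤ RingCat.{u}} {U : C}
  (M : PresheafOfModules.{u} (rover R U))

/-- The stalk of `M` at the point of `C/U` given by `x`. -/
noncomputable abbrev st (x : p.fiber.obj U) : AddCommGrpCat.{u} :=
  (p.over x).presheafFiber.obj M.presheaf

/-- The germ in the stalk at `p.over x`. -/
noncomputable def gm (x : p.fiber.obj U) (Y : Over U) (y : p.fiber.obj Y.left)
    (hy : p.fiber.map Y.hom y = x) : M.presheaf.obj (op Y) ⟶ st p M x :=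
  (p.over x).toPresheafFiber Y ⟨y, hy⟩ M.presheaf

theorem gm_res (x : p.fiber.obj U) {Y Z : Over U} (g : Z ⟶ Y) (z : p.fiber.obj Z.left)
    (hz : p.fiber.map Z.hom z = x) (hy : p.fiber.map Y.hom (p.fiber.map g.left z) = x) :
    M.presheaf.map g.op ≫ gm p M x Z z hz = gm p M x Y (p.fiber.map g.left z) hy :=
  (p.over x).toPresheafFiber_w g ⟨z, hz⟩ M.presheaf

/-- The direct sum of the stalks. -/
noncomputable abbrev tot : AddCommGrpCat.{u} := ∐ fun x : p.fiber.obj U => st p M x

/-- The germ in the direct sum. -/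
noncomputable def inj (Y : Over U) (y : p.fiber.obj Y.left) : M.presheaf.obj (op Y) ⟶ tot p M :=
  gm p M (p.fiber.map Y.hom y) Y y rfl ≫ Sigma.ι (fun x => st p M x) _

theorem inj_eq (Y : Over U) (y : p.fiber.obj Y.left) (x : p.fiber.obj U)
    (hy : p.fiber.map Y.hom y = x) :
    inj p M Y y = gm p M x Y y hy ≫ Sigma.ι (fun x => st p M x) x := by
  subst hy
  rfl

theorem inj_res {Y Z : Over U} (g : Z ⟶ Y) (z : p.fiber.obj Z.left) :
    M.presheaf.map g.op ≫ inj p M Z z = inj p M Y (p.fiber.map g.left z) := by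
  have hz : p.fiber.map Z.hom z = p.fiber.map Y.hom (p.fiber.map g.left z) := by
    rw [← Over.w g, Functor.map_comp]
    rfl
  rw [inj_eq p M Z z _ hz, inj, ← Category.assoc, gm_res p M _ g z hz rfl]

theorem of_res {Y Z : Over U} (g : Z ⟶ Y) (m : M.obj (op Y)) :
    of M (op Z.left) Z.hom ((M.map g.op).hom m) = res M g.left.op (of M (op Y.left) Y.hom m) :=
  PresheafOfModules.naturality_apply ((adj R U).unit.app M) g.op m

/-- The map on sections. -/
noncomputable def ofAb (Y : Over U) : M.presheaf.obj (op Y) ⟶ (shAb M).obj (op Y.left) :=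
  AddCommGrpCat.ofHom (of M (op Y.left) Y.hom).toAddMonoidHom

theorem ofAb_res {Y Z : Over U} (g : Z ⟶ Y) :
    M.presheaf.map g.op ≫ ofAb M Z = ofAb M Y ≫ (shAb M).map g.left.op := by
  ext m
  exact of_res M g m

/-- The map from the direct sum of the stalks. -/
noncomputable def aMap : tot p M ⟶ p.presheafFiber.obj (shAb M) :=
  Sigma.desc fun x => (p.over x).presheafFiberDesc
    (fun Y y => ofAb M Y ≫ p.toPresheafFiber Y.left y.1 (shAb M)) (by
        intro Z Y g z
        rw [← Category.assoc, ofAb_res, Category.assoc, p.toPresheafFiber_w]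
        rfl)

theorem inj_aMap (Y : Over U) (y : p.fiber.obj Y.left) :
    inj p M Y y ≫ aMap p M = ofAb M Y ≫ p.toPresheafFiber Y.left y (shAb M) := by
  rw [inj, Category.assoc, aMap, Sigma.ι_desc]
  exact (p.over _).toPresheafFiber_presheafFiberDesc _ _ _ _

open Classical in
/-- The map to the direct sum, on sections. -/
noncomputable def bV (V : C) (v : p.fiber.obj V) : (shAb M).obj (op V) ⟶ tot p M :=
  AddCommGrpCat.ofHom (DirectSum.toAddMonoid fun φ : V ⟶ U => (inj p M (Over.mk φ) v).hom)

theorem bV_of (V : C) (v : p.fiber.obj V) (φ : V ⟶ U) (m : fib M (op V) φ) :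
    (bV p M V v).hom (of M (op V) φ m) = (inj p M (Over.mk φ) v).hom m := by
  classical
  exact DirectSum.toAddMonoid_of _ _ _

theorem ofAb_bV (Y : Over U) (y : p.fiber.obj Y.left) : ofAb M Y ≫ bV p M Y.left y = inj p M Y y := by
  ext m
  exact bV_of p M Y.left y Y.hom m

theorem bV_res {V W : C} (g : W ⟶ V) (w : p.fiber.obj W) :
    (shAb M).map g.op ≫ bV p M W w = bV p M V (p.fiber.map g w) := by
  ext1
  apply addHom_ext'
  intro φ m
  change (bV p M W w).hom (res M g.op (of M (op V) φ m)) = (bV p M V _).hom (of M (op V) φ m)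
  rw [res_of, bV_of, bV_of, resFib_apply]
  exact ConcreteCategory.congr_hom
    (inj_res p M (Over.homMk g : Over.mk (g ≫ φ) ⟶ Over.mk φ) w) m

/-- The map to the direct sum of the stalks. -/
noncomputable def bMap : p.presheafFiber.obj (shAb M) ⟶ tot p M :=
  p.presheafFiberDesc (bV p M) (fun _ _ g w => bV_res p M g w)

theorem toFiber_bMap (V : C) (v : p.fiber.obj V) :
    p.toPresheafFiber V v (shAb M) ≫ bMap p M = bV p M V v :=
  p.toPresheafFiber_presheafFiberDesc _ _ _ _

theorem bMap_aMap : bMap p M ≫ aMap p M = 𝟙 _ := by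
  apply p.presheafFiber_hom_ext
  intro V v
  rw [← Category.assoc, toFiber_bMap, Category.comp_id]
  ext1
  apply addHom_ext'
  intro φ m
  change (aMap p M).hom ((bV p M V v).hom (of M (op V) φ m)) = _
  rw [bV_of]
  exact ConcreteCategory.congr_hom (inj_aMap p M (Over.mk φ) v) m

theorem aMap_bMap : aMap p M ≫ bMap p M = 𝟙 _ := by
  apply Sigma.hom_ext
  intro x
  apply (p.over x).presheafFiber_hom_ext
  rintro Y ⟨y, hy⟩
  have h1 := inj_eq p M Y y x hy
  have h2 := inj_aMap p M Y y
  rw [h1] at h2
  rw [Category.comp_id]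
  change gm p M x Y y hy ≫ _ = gm p M x Y y hy ≫ _
  rw [← h1, ← Category.assoc, ← Category.assoc, ← h1, inj_aMap, Category.assoc, toFiber_bMap, ofAb_bV]

/-- The stalk of the extension by zero is the direct sum of the stalks. -/
noncomputable def iso : p.presheafFiber.obj (shAb M) ≅ tot p M where
  hom := bMap p M
  inv := aMap p M
  hom_inv_id := bMap_aMap p M
  inv_hom_id := aMap_bMap p M

end K295.ShriekStalk
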