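import Groth.Agent.ModSite.K295.CommaSite
import Mathlib.CategoryTheory.Sites.Over

/-!
# Covering flat functors on slices

If `fn : D ⥤ C` is covering flat (resp. continuous and covering flat) then so is
`Over.post fn : Over V ⥤ Over (fn V)`.
-/

set_option autoImplicit false

universe u

open CategoryTheory CategoryTheory.Limits Opposite K780.CovFlat K780.MorSite K295.CommaSite

namespace K295.Slice

variable {C D : Type u} [SmallCategory C] [SmallCategory D] {J : GrothendieckTopology C}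
    {K : GrothendieckTopology D}

theorem loc_over {X : C} {Y : Over X} {φ : ∀ ⦃Z : Over X⦄, (Z ⟶ Y) → Prop}
    (h : Loc J Y.left (fun U' h => φ (Over.homMk h : Over.mk (h ≫ Y.hom) ⟶ Y))) : Loc (J.over X) Y φ := by
  obtain ⟨S, hS, H⟩ := h
  refine ⟨(Sieve.overEquiv Y).symm S, J.overEquiv_symm_mem_over Y S hS, ?_⟩
  intro Z g hg
  rw [Sieve.overEquiv_symm_iff] at hg
  have h1 := H g.left hg
  have hw : g.left ≫ Y.hom = Z.hom := Over.w g
  have key : ∀ (z : Z.left ⟶ X) (w : g.left ≫ Y.hom = z), φ (Over.homMk g.left w : Over.mk z ⟶ Y) := by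
    intro z w
    subst w
    exact h1
  exact key Z.hom hw

theorem loc_of_over {X : C} {Y : Over X} {φ : ∀ ⦃Z : C⦄, (Z ⟶ Y.left) → Prop}
    (h : Loc (J.over X) Y (fun Z g => φ g.left)) : Loc J Y.left φ := by
  obtain ⟨S, hS, H⟩ := h
  refine ⟨Sieve.overEquiv Y S, (J.mem_over_iff S).1 hS, ?_⟩
  intro Z g hg
  rw [Sieve.overEquiv_iff] at hg
  exact H _ hg

theorem isCF_post {fn : D ⥤ C} (h : IsCF fn J) (V : D) :
    IsCF (Over.post (X := V) fn) (J.over (fn.obj V)) where
  term Y := Loc.of_forall fun Z _ => ⟨Over.mk (𝟙 V), ⟨Over.homMk (U := Z) (V := (Over.post fn).obj (Over.mk (𝟙 V)))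
    Z.hom (by
      change Z.hom ≫ fn.map (𝟙 V) = Z.hom
      rw [fn.map_id, Category.comp_id])⟩⟩
  prod Y c₁ c₂ x₁ x₂ := by
    have h1 : x₁.left ≫ fn.map c₁.hom = Y.hom := Over.w x₁
    have h2 : x₂.left ≫ fn.map c₂.hom = Y.hom := Over.w x₂
    refine loc_over ((h.span Y.left c₁.hom c₂.hom x₁.left x₂.left (h1.trans h2.symm)).mono ?_)
    · rintro U' f ⟨c, h₁, h₂, y, e₁, e₂, e₃⟩
      refine ⟨Over.mk (h₁ ≫ c₁.hom), Over.homMk h₁, Over.homMk h₂ e₃.symm, Over.homMk y ?_, ?_, ?_⟩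
      · change y ≫ fn.map (h₁ ≫ c₁.hom) = f ≫ Y.hom
        rw [fn.map_comp, reassoc_of% e₁]
        exact congrArg (f ≫ ·) h1
      · ext
        exact e₁
      · ext
        exact e₂
  eq Y c c' s t x e := by
    have h1 : x.left ≫ fn.map c.hom = Y.hom := Over.w x
    refine loc_over ((h.eq Y.left c.left c'.left s.left t.left x.left ?_).mono ?_)
    · exact congrArg (fun k => CommaMorphism.left k) e
    · rintro U' f ⟨c₀, g, y, e₁, e₂⟩
      refine ⟨Over.mk (g ≫ c.hom), Over.homMk g, Over.homMk y ?_, ?_, ?_⟩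
      · change y ≫ fn.map (g ≫ c.hom) = f ≫ Y.hom
        rw [fn.map_comp, reassoc_of% e₂]
        exact congrArg (f ≫ ·) h1
      · ext
        exact e₁
      · ext
        exact e₂

theorem coverPreserving_post {fn : D ⥤ C} (h : CoverPreserving K J fn) (V : D) :
    CoverPreserving (K.over V) (J.over (fn.obj V)) (Over.post (X := V) fn) where
  cover_preserve {Y S} hS := by
    rw [J.mem_over_iff]
    refine J.superset_covering ?_ (h.cover_preserve ((K.mem_over_iff S).1 hS))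
    rintro Z _ ⟨W, g, y, hg, rfl⟩
    rw [Sieve.overEquiv_iff] at hg ⊢
    refine ⟨Over.mk (g ≫ Y.hom), Over.homMk g, Over.homMk y ?_, hg, ?_⟩
    · change y ≫ fn.map (g ≫ Y.hom) = (y ≫ fn.map g) ≫ fn.map Y.hom
      rw [fn.map_comp, Category.assoc]
    · ext
      rfl

theorem coversTop_of_coversTop {fn : D ⥤ C} [fn.IsContinuous K J] (h : IsCF fn J) {I : Type*} (X : I → D)
    (hX : K.CoversTop X) : J.CoversTop (fun i => fn.obj (X i)) := by
  intro U
  have h1 : Loc J U (fun U' _ => ∃ i, Nonempty (U' ⟶ fn.obj (X i))) := by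
    refine (h.term U).bind ?_
    rintro U1 h1 ⟨V1, ⟨c1⟩⟩
    refine (loc_of_mem c1 (hX V1)).mono ?_
    rintro U2 h2 ⟨V2, c2, g2, w2, hg⟩
    obtain ⟨i, ⟨y⟩⟩ := (Sieve.mem_ofObjects_iff ..).mp hg
    exact ⟨i, ⟨c2 ≫ fn.map y⟩⟩
  obtain ⟨S, hS, H⟩ := h1
  refine J.superset_covering ?_ hS
  intro U' g hg
  exact (Sieve.mem_ofObjects_iff ..).mpr (H g hg)

theorem isContinuous_post {fn : D ⥤ C} [fn.IsContinuous K J] (h : IsCF fn J) (V : D) :
    (Over.post (X := V) fn).IsContinuous (K.over V) (J.over (fn.obj V)) :=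
  (isCF_post h V).isContinuous (coverPreserving_post coverPreserving V)

end K295.Slice
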