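import Groth.Agent.ModSite.K295.Slice
import Groth.Agent.ModSite.K295.PullExact

/-!
# Localization of a morphism of ringed sites

For `f : (C, O_C) → (D, O_D)` and `V : D` the morphism `sl f V : (C/fn V, O_C) → (D/V, O_D)` and the
isomorphism `(f^* M)|_{fn V} ≅ (sl f V)^* (M|_V)`.
-/

set_option autoImplicit false

universe u

open CategoryTheory CategoryTheory.Limits Opposite K780.CovFlat K780.MorSite K295.CommaSite K295.InvRing
  K291.FreeOn K291.PullFree K295.FlatCrit K295.PullLoc K295.PullSec K295.PullFlat K295.PullExact K295.Slice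

namespace K295.SliceMor

variable {C D : Type u} [SmallCategory C] [SmallCategory D] {J : GrothendieckTopology C}
    {K : GrothendieckTopology D} {O_C : Sheaf J CommRingCat.{u}} {O_D : Sheaf K CommRingCat.{u}}
    (f : ModSite.RMor O_C O_D) (V : D)

instance : (Over.post (X := V) f.fn).IsContinuous (K.over V) (J.over (f.fn.obj V)) :=
  isContinuous_post (isCF (f := f)).out V

/-- The localization of a morphism of ringed sites. -/
noncomputable def sl : ModSite.RMor (O_C.over (f.fn.obj V)) (O_D.over V) where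
  fn := Over.post f.fn
  exact := preservesFiniteLimits_of_isCF (isCF_post (isCF (f := f)).out V)
  sharp := ⟨Functor.whiskerLeft (Over.forget V).op f.sharp.hom⟩

variable {V}

/-- Sections of the restriction. -/
def rsec {O : Sheaf J CommRingCat.{u}} (F : ModSite.Mod O) {X : C} (Y : Over X) :
    ModSite.sect ((ModSite.restr O X).obj F) Y ≃+ ModSite.sect F Y.left where
  toFun s := s
  invFun s := s
  left_inv _ := rfl
  right_inv _ := rfl
  map_add' _ _ := rfl

/-- Sections of the restriction of the structure sheaf. -/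
def rsc (O : Sheaf J CommRingCat.{u}) {X : C} (Y : Over X) :
    (O.over X).obj.obj (op Y) ≃+* O.obj.obj (op Y.left) := RingEquiv.refl _

theorem rsec_smul {O : Sheaf J CommRingCat.{u}} (F : ModSite.Mod O) {X : C} (Y : Over X)
    (r : (O.over X).obj.obj (op Y)) (s : ModSite.sect ((ModSite.restr O X).obj F) Y) :
    rsec F Y (r • s) = rsc O Y r • rsec F Y s := rfl

theorem rsec_rs {O : Sheaf J CommRingCat.{u}} (F : ModSite.Mod O) {X : C} {Y Z : Over X} (g : Z ⟶ Y)
    (s : ModSite.sect ((ModSite.restr O X).obj F) Y) :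
    rsec F Z (rs _ g s) = rs F g.left (rsec F Y s) := rfl

theorem rsc_orr (O : Sheaf J CommRingCat.{u}) {X : C} {Y Z : Over X} (g : Z ⟶ Y)
    (r : (O.over X).obj.obj (op Y)) : rsc O Z (orr (O.over X) g r) = orr O g.left (rsc O Y r) := rfl

variable (V) in
/-- The morphism `M|_V ⟶ (sl f V)_* ((f^* M)|_{fn V})`. -/
noncomputable def θ₀ (M : ModSite.Mod O_D) : (ModSite.restr O_D V).obj M ⟶
    (sl f V).push.obj ((ModSite.restr O_C (f.fn.obj V)).obj (f.pull.obj M)) :=
  (ModSite.restr O_D V).map (f.adj.unit.app M)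

variable (V) in
/-- The comparison morphism `(sl f V)^* (M|_V) ⟶ (f^* M)|_{fn V}`. -/
noncomputable def θ (M : ModSite.Mod O_D) : (sl f V).pull.obj ((ModSite.restr O_D V).obj M) ⟶
    (ModSite.restr O_C (f.fn.obj V)).obj (f.pull.obj M) :=
  ((sl f V).adj.homEquiv _ _).symm (θ₀ f V M)

theorem θ_pbc (M : ModSite.Mod O_D) {Y : Over (f.fn.obj V)} {W : Over V} (c : Y ⟶ (sl f V).fn.obj W)
    (m : ModSite.sect ((ModSite.restr O_D V).obj M) W) :
    rsec (f.pull.obj M) Y (sc (θ f V M) Y (pbc (sl f V) c m)) = pbc f (V := W.left) c.left (rsec M W m) := by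
  rw [pbc_def, sc_rs, θ, homEquiv_symm_pb]
  rfl

theorem rcc_sl {Y : Over (f.fn.obj V)} {W : Over V} (c : Y ⟶ (sl f V).fn.obj W) (r : (O_D.over V).obj.obj (op W)) :
    rsc O_C Y (rcc (sl f V) c r) = rcc f (V := W.left) c.left (rsc O_D W r) := rfl

theorem θ_sum (M : ModSite.Mod O_D) {Y : Over (f.fn.obj V)} {W : Over V} (c : Y ⟶ (sl f V).fn.obj W) {n : ℕ}
    (a : Fin n → (O_C.over (f.fn.obj V)).obj.obj (op Y)) (m : Fin n → ModSite.sect ((ModSite.restr O_D V).obj M) W) :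
    rsec (f.pull.obj M) Y (sc (θ f V M) Y (∑ i, a i • pbc (sl f V) c (m i))) =
      ∑ i, rsc O_C Y (a i) • pbc f (V := W.left) c.left (rsec M W (m i)) := by
  rw [sc_sum, map_sum]
  exact Finset.sum_congr rfl fun i _ => congrArg (fun t : ModSite.sect (f.pull.obj M) Y.left =>
    rsc O_C Y (a i) • t) (θ_pbc f M c (m i))

instance mono_θ (M : ModSite.Mod O_D) : Mono (θ f V M) := by
  refine mono_of_loc _ fun Y x hx => ?_
  refine ((isCF (f := sl f V)).out.term Y).bind ?_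
  rintro Y1 h1 ⟨W1, ⟨c1⟩⟩
  refine (exists_sum (sl f V) c1 (rs _ h1 x)).bind ?_
  rintro Y2 h2 ⟨W2, c2, g2, w2, n, a, m, e1⟩
  have h0 : ∑ i, rsc O_C Y2 (a i) • pbc f (V := W2.left) c2.left (rsec M W2 (m i)) = 0 := by
    rw [← θ_sum, ← e1, sc_rs, sc_rs, hx, map_zero, map_zero, map_zero]
  refine loc_over ((rel_left f c2.left (fun i => rsc O_C Y2 (a i)) _ h0).mono ?_)
  rintro U3 h3 ⟨V3, c3, g3, w3, l, k, q, r, r', β, e2, e3, e4⟩
  let Y3 : Over (f.fn.obj V) := Over.mk (h3 ≫ Y2.hom)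
  let W3 : Over V := Over.mk (g3 ≫ W2.hom)
  let h3' : Y3 ⟶ Y2 := Over.homMk h3
  let g3' : W3 ⟶ W2 := Over.homMk g3
  have h4 : c2.left ≫ f.fn.map W2.hom = Y2.hom := Over.w c2
  let c3' : Y3 ⟶ (sl f V).fn.obj W3 := Over.homMk c3 (by
    change c3 ≫ f.fn.map (g3 ≫ W2.hom) = h3 ≫ Y2.hom
    rw [f.fn.map_comp, ← h4, ← reassoc_of% w3]
    rfl)
  have w3' : h3' ≫ c2 = c3' ≫ (sl f V).fn.map g3' := by
    ext
    exact w3
  change rs _ ((h3' ≫ h2) ≫ h1) x = 0
  rw [← rs_comp, ← rs_comp, e1, rs_sum']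
  simp only [← pbc_rs (sl f V) c2 c3' h3' g3' w3']
  refine alg2 (sl f V) c3' (l := l) (k := k) _ β r r' e2 e3 _ q e4

instance epi_θ (M : ModSite.Mod O_D) : Epi (θ f V M) := by
  rw [epi_iff_LS, LS_iff]
  intro Y y
  refine loc_over ((exists_sum f (V := V) Y.hom (rsec (f.pull.obj M) Y y)).mono ?_)
  rintro U1 h1 ⟨V1, c1, g1, w1, n, a, m, e1⟩
  let Y1 : Over (f.fn.obj V) := Over.mk (h1 ≫ Y.hom)
  let W1 : Over V := Over.mk g1
  let c1' : Y1 ⟶ (sl f V).fn.obj W1 := Over.homMk c1 w1.symm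
  refine ⟨∑ i, (rsc O_C Y1).symm (a i) • pbc (sl f V) c1' ((rsec M W1).symm (m i)), ?_⟩
  apply (rsec (f.pull.obj M) Y1).injective
  refine (θ_sum f M c1' _ _).trans ?_
  exact e1.symm

/-- The comparison isomorphism `(sl f V)^* (M|_V) ≅ (f^* M)|_{fn V}`. -/
instance isIso_θ (M : ModSite.Mod O_D) : IsIso (θ f V M) := isIso_of_mono_of_epi _

end K295.SliceMor
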