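import Groth.Agent.ModSite.K295.LocRing
import Groth.Prelude.Def_ModSite2
import Mathlib.CategoryTheory.Sites.Point.Conservative

/-!
# Stalks of a sheaf of rings at points of a site: units
-/

set_option autoImplicit false

universe u

open CategoryTheory Opposite

namespace K295.StalkRing

variable {C : Type u} [SmallCategory C] {J : GrothendieckTopology C} (O : Sheaf J CommRingCat.{u})
  (p : GrothendieckTopology.Point.{u} J)

theorem exists_germ (a : ModSite.stalkRing p O) : ∃ (X : C) (x : p.fiber.obj X) (r : O.obj.obj (op X)),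
    ModSite.germRing p X x r = a :=
  p.toPresheafFiber_jointly_surjective (P := O.obj) a

theorem exists_germ₂ (a b : ModSite.stalkRing p O) :
    ∃ (X : C) (x : p.fiber.obj X) (r s : O.obj.obj (op X)),
      ModSite.germRing p X x r = a ∧ ModSite.germRing p X x s = b :=
  p.toPresheafFiber_jointly_surjective₂ (P := O.obj) a b

theorem germ_res {X Y : C} (g : Y ⟶ X) (y : p.fiber.obj Y) (r : O.obj.obj (op X)) :
    ModSite.germRing p Y y ((O.obj.map g.op).hom r) = ModSite.germRing p X (p.fiber.map g y) r :=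
  p.toPresheafFiber_w_apply g y O.obj r

theorem germ_eq_iff {X : C} (x : p.fiber.obj X) (r s : O.obj.obj (op X)) :
    ModSite.germRing (O := O) p X x r = ModSite.germRing p X x s ↔ ∃ (Y : C) (g : Y ⟶ X)
      (y : p.fiber.obj Y), p.fiber.map g y = x ∧ (O.obj.map g.op).hom r = (O.obj.map g.op).hom s :=
  p.toPresheafFiber_eq_iff' (P := O.obj) X x r s

theorem dich_stalk (h : LocRing.Dich J O.obj) (a : ModSite.stalkRing p O) :
    IsUnit a ∨ IsUnit (1 - a) := by
  obtain ⟨X, x, r, rfl⟩ := exists_germ O p a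
  obtain ⟨S, hS, H⟩ := h X r
  obtain ⟨Y, g, hg, y, rfl⟩ := p.jointly_surjective _ hS x
  rw [← germ_res]
  rcases H g hg with h1 | h1
  · exact Or.inl (h1.map (p.toPresheafFiber Y y O.obj).hom)
  · refine Or.inr ?_
    have h2 := h1.map (p.toPresheafFiber Y y O.obj).hom
    rw [map_sub, map_one, map_sub, map_one] at h2
    exact h2

theorem subsingleton_or_isLocalRing (h : LocRing.Dich J O.obj) :
    Subsingleton (ModSite.stalkRing p O) ∨ IsLocalRing (ModSite.stalkRing p O) := by
  rcases subsingleton_or_nontrivial (ModSite.stalkRing p O) with h1 | h1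
  · exact Or.inl h1
  · exact Or.inr (IsLocalRing.of_isUnit_or_isUnit_one_sub_self (dich_stalk O p h))

/-- If the germ of a section is a unit then the section is a unit on a smaller neighbourhood. -/
theorem exists_isUnit_of_germ {X : C} (x : p.fiber.obj X) (r : O.obj.obj (op X))
    (h : IsUnit (ModSite.germRing (O := O) p X x r)) : ∃ (Y : C) (g : Y ⟶ X) (y : p.fiber.obj Y),
      p.fiber.map g y = x ∧ IsUnit ((O.obj.map g.op).hom r) := by
  obtain ⟨b, hb⟩ := h.exists_right_inv
  obtain ⟨Z, z, s, rfl⟩ := exists_germ O p b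
  let W := IsCofiltered.min (Functor.elementsMk p.fiber X x) (Functor.elementsMk p.fiber Z z)
  let gX := IsCofiltered.minToLeft (Functor.elementsMk p.fiber X x) (Functor.elementsMk p.fiber Z z)
  let gZ := IsCofiltered.minToRight (Functor.elementsMk p.fiber X x) (Functor.elementsMk p.fiber Z z)
  have hX : ModSite.germRing p X x r = ModSite.germRing p W.1 W.2 ((O.obj.map gX.1.op).hom r) := by
    rw [germ_res]
    exact congrArg (fun t => ModSite.germRing (O := O) p X t r) gX.2.symm
  have hZ : ModSite.germRing p Z z s = ModSite.germRing p W.1 W.2 ((O.obj.map gZ.1.op).hom s) := by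
    rw [germ_res]
    exact congrArg (fun t => ModSite.germRing (O := O) p Z t s) gZ.2.symm
  have h1 : ModSite.germRing (O := O) p W.1 W.2
      ((O.obj.map gX.1.op).hom r * (O.obj.map gZ.1.op).hom s) = ModSite.germRing p W.1 W.2 1 := by
    have e1 := map_mul (p.toPresheafFiber W.1 W.2 O.obj).hom
      ((O.obj.map gX.1.op).hom r) ((O.obj.map gZ.1.op).hom s)
    have e2 := map_one (p.toPresheafFiber W.1 W.2 O.obj).hom
    rw [hX, hZ] at hb
    exact e1.trans (hb.trans e2.symm)
  obtain ⟨Y, g, y, hy, h2⟩ := (germ_eq_iff O p W.2 _ _).1 h1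
  refine ⟨Y, g ≫ gX.1, y, ?_, ?_⟩
  · rw [Functor.map_comp, types_comp_apply, hy]
    exact gX.2
  · rw [map_mul, map_one] at h2
    have h3 := IsUnit.of_mul_eq_one _ h2
    rw [op_comp, Functor.map_comp]
    exact h3

/-- The converse with enough points. -/
theorem dich_of_stalks [GrothendieckTopology.HasEnoughPoints.{u} J]
    (h : ∀ p : GrothendieckTopology.Point.{u} J,
      Subsingleton (ModSite.stalkRing p O) ∨ IsLocalRing (ModSite.stalkRing p O)) :
    LocRing.Dich J O.obj := by
  intro U f
  obtain ⟨P, hP, hP'⟩ := GrothendieckTopology.HasEnoughPoints.exists_objectProperty (J := J)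
  let ι : Type u := Σ V : C, { g : V ⟶ U // IsUnit ((O.obj.map g.op).hom f) ∨
    IsUnit ((O.obj.map g.op).hom (1 - f)) }
  refine ⟨Sieve.ofArrows (fun i : ι => i.1) (fun i => i.2.1), ?_, ?_⟩
  · rw [hP'.jointly_reflect_ofArrows_mem]
    intro Φ x
    have key : IsUnit (ModSite.germRing (O := O) Φ.obj U x f) ∨
        IsUnit (ModSite.germRing (O := O) Φ.obj U x (1 - f)) := by
      have e : ModSite.germRing (O := O) Φ.obj U x (1 - f) =
          1 - ModSite.germRing (O := O) Φ.obj U x f :=
        (map_sub (Φ.obj.toPresheafFiber U x O.obj).hom 1 f).trans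
          (congrArg (· - _) (map_one (Φ.obj.toPresheafFiber U x O.obj).hom))
      rw [e]
      rcases h Φ.obj with h1 | h1
      · exact Or.inl (isUnit_of_subsingleton _)
      · exact IsLocalRing.isUnit_or_isUnit_one_sub_self _
    rcases key with h1 | h1
    · obtain ⟨Y, g, y, hy, h2⟩ := exists_isUnit_of_germ O Φ.obj x f h1
      exact ⟨⟨Y, g, Or.inl h2⟩, y, hy⟩
    · obtain ⟨Y, g, y, hy, h2⟩ := exists_isUnit_of_germ O Φ.obj x (1 - f) h1
      exact ⟨⟨Y, g, Or.inr h2⟩, y, hy⟩
  · rintro V _ ⟨W, k, _, ⟨⟨Y, g, hg⟩⟩, rfl⟩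
    rw [op_comp, Functor.map_comp]
    rcases hg with hg | hg
    · exact Or.inl (hg.map (O.obj.map k.op).hom)
    · exact Or.inr (hg.map (O.obj.map k.op).hom)

end K295.StalkRing
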